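import Groth.Prelude.Def_GrSyz
import Mathlib.RingTheory.MvPolynomial.Homogeneous
import Mathlib.Algebra.Order.Antidiag.FinsuppEquiv
import Mathlib.LinearAlgebra.Dimension.Free
import Mathlib.LinearAlgebra.Pi
import Mathlib.LinearAlgebra.Dimension.Constructions
import Mathlib.LinearAlgebra.FiniteDimensional.Lemmas
import Mathlib.Data.Nat.Choose.Basic
import Mathlib.Data.Nat.Factorial.BigOperators
import Mathlib.RingTheory.Finiteness.Basic

/-! Hilbert functions from graded free resolutions over a polynomial ring. -/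

set_option autoImplicit false
universe u

open MvPolynomial

noncomputable section

namespace GrSyzLib

variable (k : Type u) [Field k] (r : ℕ)


theorem weight_one_eq (d : Fin (r + 1) →₀ ℕ) :
    Finsupp.weight (fun _ : Fin (r + 1) => (1 : ℤ)) d = (d.degree : ℤ) := by
  simp [Finsupp.weight_apply, Finsupp.degree_eq_sum, Finsupp.sum_fintype]

theorem stdGr_nat (n : ℕ) : (GrSyz.stdGr k (Fin (r + 1))) (n : ℤ) = homogeneousSubmodule (Fin (r + 1)) k n := by
  ext p
  rw [GrSyz.mem_stdGr_iff, mem_homogeneousSubmodule]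
  refine ⟨fun h d hd => ?_, fun h d hd => ?_⟩
  · have := h hd
    rw [weight_one_eq] at this
    rw [Finsupp.degree_eq_weight_one] at this
    exact_mod_cast this
  · rw [weight_one_eq]
    have := h hd
    rw [Finsupp.degree_eq_weight_one]
    exact_mod_cast this

theorem stdGr_neg {n : ℤ} (hn : n < 0) : (GrSyz.stdGr k (Fin (r + 1))) n = ⊥ := by
  refine (Submodule.eq_bot_iff _).2 fun p hp => ?_
  refine MvPolynomial.ext _ _ fun d => ?_
  rw [coeff_zero]
  by_contra h
  have := hp h
  rw [weight_one_eq] at this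
  omega

/-- The Hilbert function of the polynomial ring. -/
def hS (r : ℕ) (n : ℤ) : ℕ := if 0 ≤ n then Nat.choose (r + n.toNat) r else 0

theorem finrank_stdGr (n : ℤ) : Module.finrank k ((GrSyz.stdGr k (Fin (r + 1))) n) = hS r n := by
  rcases lt_or_ge n 0 with hn | hn
  · rw [stdGr_neg k r hn, hS, if_neg (by omega)]; exact finrank_bot k _
  obtain ⟨n, rfl⟩ := Int.eq_ofNat_of_zero_le hn
  rw [stdGr_nat, hS, if_pos hn]
  classical
  rw [show homogeneousSubmodule (Fin (r + 1)) k n = restrictSupport k {d : Fin (r + 1) →₀ ℕ | d.degree = n} from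
    homogeneousSubmodule_eq_finsupp_supported _ k n, Module.finrank_eq_nat_card_basis (basisRestrictSupport k _)]
  have hs : {d : Fin (r + 1) →₀ ℕ | d.degree = n} = ↑((Finset.univ : Finset (Fin (r + 1))).finsuppAntidiag n) := by
    ext d
    simp [Finsupp.degree_eq_sum]
  rw [hs, Nat.card_coe_set_eq, Set.ncard_coe_finset, Finset.card_finsuppAntidiag_nat_eq_choose, Finset.card_univ,
    Fintype.card_fin, Int.toNat_natCast, show r + 1 + n - 1 = r + n by omega, Nat.choose_symm_add]

instance finite_stdGr (n : ℤ) : Module.Finite k ((GrSyz.stdGr k (Fin (r + 1))) n) := by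
  rcases lt_or_ge n 0 with hn | hn
  · rw [stdGr_neg k r hn]; infer_instance
  obtain ⟨n, rfl⟩ := Int.eq_ofNat_of_zero_le hn
  rw [stdGr_nat]
  exact Module.Finite.iff_fg.2 (homogeneousSubmodule_fg (Fin (r + 1)) k n)

/-- The degree `d` piece of a free module with basis degrees `a`. -/
def piece {n : ℕ} (a : Fin n → ℤ) (d : ℤ) : Submodule k (Fin n → (MvPolynomial (Fin (r + 1)) k)) :=
  Submodule.pi Set.univ fun b => (GrSyz.stdGr k (Fin (r + 1))) (d - a b)

theorem mem_piece {n : ℕ} {a : Fin n → ℤ} {d : ℤ} {v : Fin n → (MvPolynomial (Fin (r + 1)) k)} :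
    v ∈ piece k r a d ↔ ∀ b, v b ∈ (GrSyz.stdGr k (Fin (r + 1))) (d - a b) := by
  simp [piece]

/-- Pieces are products of pieces of the ring. -/
noncomputable def pieceEquiv {n : ℕ} (a : Fin n → ℤ) (d : ℤ) : piece k r a d ≃ₗ[k] ((b : Fin n) → (GrSyz.stdGr k (Fin (r + 1))) (d - a b)) where
  toFun v b := ⟨v.1 b, (mem_piece k r).1 v.2 b⟩
  invFun v := ⟨fun b => v b, (mem_piece k r).2 fun b => (v b).2⟩
  map_add' _ _ := rfl
  map_smul' _ _ := rfl

instance finite_piece {n : ℕ} (a : Fin n → ℤ) (d : ℤ) : Module.Finite k (piece k r a d) :=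
  Module.Finite.equiv (pieceEquiv k r a d).symm

theorem finrank_piece {n : ℕ} (a : Fin n → ℤ) (d : ℤ) :
    Module.finrank k (piece k r a d) = ∑ b, hS r (d - a b) := by
  rw [(pieceEquiv k r a d).finrank_eq, Module.finrank_pi_fintype]
  exact Finset.sum_congr rfl fun b _ => finrank_stdGr k r _

open DirectSum in
/-- The degree `d` component of a vector. -/
noncomputable def proj {n : ℕ} (a : Fin n → ℤ) (d : ℤ) (v : Fin n → (MvPolynomial (Fin (r + 1)) k)) : Fin n → (MvPolynomial (Fin (r + 1)) k) :=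
  fun b => (decompose (GrSyz.stdGr k (Fin (r + 1))) (v b) (d - a b) : (MvPolynomial (Fin (r + 1)) k))

theorem proj_mem {n : ℕ} (a : Fin n → ℤ) (d : ℤ) (v : Fin n → (MvPolynomial (Fin (r + 1)) k)) : proj k r a d v ∈ piece k r a d :=
  (mem_piece k r).2 fun _ => SetLike.coe_mem _

theorem proj_eq {n : ℕ} {a : Fin n → ℤ} {d : ℤ} {v : Fin n → (MvPolynomial (Fin (r + 1)) k)} (h : v ∈ piece k r a d) : proj k r a d v = v :=
  funext fun b => DirectSum.decompose_of_mem_same (GrSyz.stdGr k (Fin (r + 1))) ((mem_piece k r).1 h b)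

variable {k r} {M : Type u} [AddCommGroup M] [Module k M] [Module (MvPolynomial (Fin (r + 1)) k) M] [IsScalarTower k (MvPolynomial (Fin (r + 1)) k) M]
  {ℳ : ℤ → Submodule k M} [DirectSum.Decomposition ℳ] [SetLike.GradedSMul (GrSyz.stdGr k (Fin (r + 1))) ℳ]

open DirectSum in
theorem decompose_smul_of_mem {c : ℤ} {m : M} (hm : m ∈ ℳ c) (p : (MvPolynomial (Fin (r + 1)) k)) (d : ℤ) :
    (decompose ℳ (p • m) d : M) = (decompose (GrSyz.stdGr k (Fin (r + 1))) p (d - c) : (MvPolynomial (Fin (r + 1)) k)) • m := by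
  classical
  induction p using DirectSum.Decomposition.inductionOn (GrSyz.stdGr k (Fin (r + 1))) with
  | zero => simp
  | @homogeneous i p =>
    by_cases hi : i = d - c
    · subst hi
      have h1 : (p : (MvPolynomial (Fin (r + 1)) k)) • m ∈ ℳ d := by
        simpa [vadd_eq_add] using SetLike.GradedSMul.smul_mem p.2 hm
      rw [decompose_of_mem_same _ h1, decompose_of_mem_same _ p.2]
    · rw [decompose_of_mem_ne _ (SetLike.GradedSMul.smul_mem p.2 hm) (by simp [vadd_eq_add]; omega),
        decompose_of_mem_ne _ p.2 hi, zero_smul]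
  | add s t hs ht => simp only [add_smul, decompose_add, DirectSum.add_apply, Submodule.coe_add, hs, ht]

open DirectSum in
theorem decompose_mul_of_mem {c : ℤ} {q : (MvPolynomial (Fin (r + 1)) k)} (hq : q ∈ (GrSyz.stdGr k (Fin (r + 1))) c) (p : (MvPolynomial (Fin (r + 1)) k)) (d : ℤ) :
    (decompose (GrSyz.stdGr k (Fin (r + 1))) (q * p) d : (MvPolynomial (Fin (r + 1)) k)) = q * (decompose (GrSyz.stdGr k (Fin (r + 1))) p (d - c) : (MvPolynomial (Fin (r + 1)) k)) := by
  classical
  induction p using DirectSum.Decomposition.inductionOn (GrSyz.stdGr k (Fin (r + 1))) with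
  | zero => simp
  | @homogeneous i p =>
    by_cases hi : i = d - c
    · subst hi
      have h1 : q * (p : (MvPolynomial (Fin (r + 1)) k)) ∈ (GrSyz.stdGr k (Fin (r + 1))) d := by simpa using SetLike.mul_mem_graded hq p.2
      rw [decompose_of_mem_same _ h1, decompose_of_mem_same _ p.2]
    · rw [decompose_of_mem_ne _ (SetLike.mul_mem_graded hq p.2) (by omega), decompose_of_mem_ne _ p.2 hi, mul_zero]
  | add s t hs ht => simp only [mul_add, decompose_add, DirectSum.add_apply, Submodule.coe_add, hs, ht]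

variable (F : GrSyz.FreeRes (GrSyz.stdGr k (Fin (r + 1))) ℳ)

theorem decompose_finsetSum {N : Type*} [AddCommMonoid N] [Module k N] (𝒩 : ℤ → Submodule k N)
    [DirectSum.Decomposition 𝒩] {ι : Type*} (s : Finset ι) (f : ι → N) (d : ℤ) :
    (DirectSum.decompose 𝒩 (∑ i ∈ s, f i) d : N) = ∑ i ∈ s, (DirectSum.decompose 𝒩 (f i) d : N) := by
  classical
  induction s using Finset.induction_on with
  | empty => simp
  | insert a s ha ih => simp [Finset.sum_insert ha, DirectSum.decompose_add, ih]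

theorem dLin_proj (i : ℕ) (d : ℤ) (w : Fin (F.rk (i + 1)) → (MvPolynomial (Fin (r + 1)) k)) :
    F.dLin i (proj k r (F.deg (i + 1)) d w) = proj k r (F.deg i) d (F.dLin i w) := by
  classical
  funext a
  simp only [GrSyz.FreeRes.dLin, Matrix.mulVecLin_apply, Matrix.mulVec, dotProduct, proj,
    decompose_finsetSum]
  refine Finset.sum_congr rfl fun b _ => ?_
  rw [decompose_mul_of_mem (F.d_mem i a b), show d - F.deg i a - (F.deg (i + 1) b - F.deg i a) = d - F.deg (i + 1) b by ring]

theorem augLin_proj (d : ℤ) (w : Fin (F.rk 0) → (MvPolynomial (Fin (r + 1)) k)) :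
    F.augLin (proj k r (F.deg 0) d w) = (DirectSum.decompose ℳ (F.augLin w) d : M) := by
  classical
  simp only [GrSyz.FreeRes.augLin, Fintype.linearCombination_apply, decompose_finsetSum, proj]
  exact Finset.sum_congr rfl fun b _ => (decompose_smul_of_mem (F.aug_mem b) _ _).symm

theorem dLin_mem_piece (i : ℕ) (d : ℤ) {w : Fin (F.rk (i + 1)) → (MvPolynomial (Fin (r + 1)) k)} (hw : w ∈ piece k r (F.deg (i + 1)) d) :
    F.dLin i w ∈ piece k r (F.deg i) d := by
  rw [← proj_eq k r hw, dLin_proj]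
  exact proj_mem k r _ _ _

/-- The restriction of a differential to a piece. -/
noncomputable def dPiece (i : ℕ) (d : ℤ) : piece k r (F.deg (i + 1)) d →ₗ[k] piece k r (F.deg i) d :=
  ((F.dLin i).restrictScalars k).restrict fun _ hw => dLin_mem_piece F i d hw

theorem augLin_mem (d : ℤ) {w : Fin (F.rk 0) → (MvPolynomial (Fin (r + 1)) k)} (hw : w ∈ piece k r (F.deg 0) d) : F.augLin w ∈ ℳ d := by
  rw [← proj_eq k r hw, augLin_proj]
  exact SetLike.coe_mem _

/-- The restriction of the augmentation to a piece. -/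
noncomputable def augPiece (d : ℤ) : piece k r (F.deg 0) d →ₗ[k] ℳ d :=
  ((F.augLin).restrictScalars k).restrict fun _ hw => augLin_mem F d hw

theorem augPiece_surjective (d : ℤ) : Function.Surjective (augPiece F d) := fun m => by
  obtain ⟨w, hw⟩ := F.aug_surjective (m : M)
  refine ⟨⟨_, proj_mem k r (F.deg 0) d w⟩, Subtype.ext ?_⟩
  show F.augLin (proj k r (F.deg 0) d w) = m
  rw [augLin_proj, show F.augLin w = m from hw, DirectSum.decompose_of_mem_same _ m.2]

theorem ker_augPiece (d : ℤ) : LinearMap.ker (augPiece F d) = LinearMap.range (dPiece F 0 d) := by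
  ext v
  rw [LinearMap.mem_ker, LinearMap.mem_range]
  constructor
  · intro hv
    obtain ⟨w, hw⟩ : (v : Fin (F.rk 0) → (MvPolynomial (Fin (r + 1)) k)) ∈ LinearMap.range (F.dLin 0) := by
      rw [← F.exact_zero]; exact congrArg Subtype.val hv
    refine ⟨⟨_, proj_mem k r (F.deg 1) d w⟩, Subtype.ext ?_⟩
    show F.dLin 0 (proj k r (F.deg (0 + 1)) d w) = v
    rw [dLin_proj, hw, proj_eq k r v.2]
  · rintro ⟨w, rfl⟩
    refine Subtype.ext ?_
    show F.augLin (F.dLin 0 w) = 0
    exact F.exact_zero.ge (LinearMap.mem_range_self _ _)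

theorem ker_dPiece (i : ℕ) (d : ℤ) : LinearMap.ker (dPiece F i d) = LinearMap.range (dPiece F (i + 1) d) := by
  ext v
  rw [LinearMap.mem_ker, LinearMap.mem_range]
  constructor
  · intro hv
    obtain ⟨w, hw⟩ : (v : Fin (F.rk (i + 1)) → (MvPolynomial (Fin (r + 1)) k)) ∈ LinearMap.range (F.dLin (i + 1)) := by
      rw [← F.exact_succ]; exact congrArg Subtype.val hv
    refine ⟨⟨_, proj_mem k r (F.deg (i + 2)) d w⟩, Subtype.ext ?_⟩
    show F.dLin (i + 1) (proj k r (F.deg (i + 1 + 1)) d w) = v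
    rw [dLin_proj, hw, proj_eq k r v.2]
  · rintro ⟨w, rfl⟩
    refine Subtype.ext ?_
    show F.dLin i (F.dLin (i + 1) w) = 0
    exact (F.exact_succ i).ge (LinearMap.mem_range_self _ _)

/-- The Hilbert function as an alternating sum. -/
theorem finrank_eq_alt_sum {m : ℕ} (hF : F.HasLengthLE m) (d : ℤ) :
    (Module.finrank k (ℳ d) : ℤ) = ∑ i ∈ Finset.range (m + 1), (-1 : ℤ) ^ i * ∑ b : Fin (F.rk i), (hS r (d - F.deg i b) : ℤ) := by
  let K : ℕ → ℤ := fun i => Module.finrank k (LinearMap.range (dPiece F i d))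
  have h0 : (Module.finrank k (piece k r (F.deg 0) d) : ℤ) = Module.finrank k (ℳ d) + K 0 := by
    rw [← LinearMap.finrank_range_add_finrank_ker (augPiece F d), LinearMap.range_eq_top.2 (augPiece_surjective F d),
      finrank_top, ker_augPiece]
    push_cast; rfl
  have hs : ∀ i, (Module.finrank k (piece k r (F.deg (i + 1)) d) : ℤ) = K i + K (i + 1) := fun i => by
    rw [← LinearMap.finrank_range_add_finrank_ker (dPiece F i d), ker_dPiece]
    push_cast; rfl
  have htel : ∀ n, (∑ i ∈ Finset.range (n + 1), (-1 : ℤ) ^ i * (Module.finrank k (piece k r (F.deg i) d) : ℤ)) =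
      Module.finrank k (ℳ d) + (-1 : ℤ) ^ n * K n := fun n => by
    induction n with
    | zero => simp [h0]
    | succ n ih => rw [Finset.sum_range_succ, ih, hs, pow_succ]; ring
  have hK : K m = 0 := by
    have h1 : (Module.finrank k (piece k r (F.deg (m + 1)) d) : ℤ) = 0 := by
      rw [finrank_piece]
      haveI : IsEmpty (Fin (F.rk (m + 1))) := by rw [hF (m + 1) (by omega)]; exact Fin.isEmpty
      simp
    have h2 := hs m
    have : 0 ≤ K (m + 1) := Int.natCast_nonneg _
    have : 0 ≤ K m := Int.natCast_nonneg _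
    omega
  have h := htel m
  rw [hK, mul_zero, add_zero] at h
  rw [← h]
  refine Finset.sum_congr rfl fun i _ => ?_
  rw [finrank_piece]
  push_cast; rfl

theorem hS_sub (a d : ℤ) : (hS r (d - a) : ℤ) = if a ≤ d then ((Nat.choose (r + (d - a).toNat) r : ℕ) : ℤ) else 0 := by
  rw [hS]
  split_ifs <;> first | rfl | omega

theorem hS_eq_poly {n : ℤ} (hn : -(r : ℤ) ≤ n) :
    (hS r n : ℚ) = (∏ j ∈ Finset.range r, ((n : ℚ) + (j + 1 : ℕ))) / r.factorial := by
  rw [hS]
  split_ifs with h
  · obtain ⟨n, rfl⟩ := Int.eq_ofNat_of_zero_le h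
    rw [Int.toNat_natCast, eq_div_iff (by exact_mod_cast r.factorial_ne_zero)]
    have h1 : (n + 1).ascFactorial r = r.factorial * (r + n).choose r := by
      rw [Nat.ascFactorial_eq_factorial_mul_choose, add_comm n r]
    rw [Nat.ascFactorial_eq_prod_range] at h1
    have h2 := congrArg (fun x : ℕ => (x : ℚ)) h1
    push_cast at h2 ⊢
    rw [mul_comm, ← h2]
    exact Finset.prod_congr rfl fun j _ => by ring
  · obtain ⟨t, ht⟩ : ∃ t : ℕ, n = -((t : ℤ) + 1) := ⟨(-n - 1).toNat, by omega⟩
    rw [Finset.prod_eq_zero (Finset.mem_range.2 (show t < r by omega)) (by subst ht; push_cast; ring)]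
    simp

theorem constantCoeff_of_mem_irrel {p : (MvPolynomial (Fin (r + 1)) k)} (hp : p ∈ (GrSyz.irrel (GrSyz.stdGr k (Fin (r + 1)))).toIdeal) : constantCoeff p = 0 := by
  have : (GrSyz.irrel (GrSyz.stdGr k (Fin (r + 1)))).toIdeal ≤ RingHom.ker (constantCoeff (R := k) (σ := Fin (r + 1))) := by
    refine Ideal.span_le.2 ?_
    rintro q ⟨n, hn, hq⟩
    rw [SetLike.mem_coe, RingHom.mem_ker, constantCoeff_eq]
    by_contra h
    have := hq h
    rw [weight_one_eq] at this
    simp at this
    omega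
  exact this hp

theorem eq_zero_of_mem_irrel_of_mem {p : (MvPolynomial (Fin (r + 1)) k)} (hp : p ∈ (GrSyz.irrel (GrSyz.stdGr k (Fin (r + 1)))).toIdeal) {n : ℤ} (hn : n ≤ 0) (h : p ∈ (GrSyz.stdGr k (Fin (r + 1))) n) :
    p = 0 := by
  refine MvPolynomial.ext _ _ fun d => ?_
  rw [coeff_zero]
  by_contra hd
  have h1 := h hd
  rw [weight_one_eq] at h1
  have h2 : d = 0 := by
    rw [← Finsupp.degree_eq_zero_iff]
    omega
  subst h2
  exact hd (constantCoeff_of_mem_irrel hp)

theorem deg_succ_le (hF : F.IsMinimal (GrSyz.irrel (GrSyz.stdGr k (Fin (r + 1)))).toIdeal) (i : ℕ) (b : Fin (F.rk (i + 1))) :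
    ∃ a, F.deg i a + 1 ≤ F.deg (i + 1) b := by
  by_contra hcon
  push_neg at hcon
  have hcol : F.dLin i (Pi.single b 1) = 0 := by
    funext a
    simp only [GrSyz.FreeRes.dLin, Matrix.mulVecLin_apply, Matrix.mulVec_single_one, Matrix.col_apply, Pi.zero_apply]
    exact eq_zero_of_mem_irrel_of_mem (hF i a b) (by linarith [hcon a]) (F.d_mem i a b)
  obtain ⟨w, hw⟩ := (F.exact_succ i).le (LinearMap.mem_ker.2 hcol)
  have h1 := congrFun hw b
  rw [Pi.single_eq_same] at h1
  have h2 : (1 : (MvPolynomial (Fin (r + 1)) k)) ∈ (GrSyz.irrel (GrSyz.stdGr k (Fin (r + 1)))).toIdeal := by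
    rw [← h1]
    simp only [GrSyz.FreeRes.dLin, Matrix.mulVecLin_apply, Matrix.mulVec, dotProduct]
    exact sum_mem fun j _ => Ideal.mul_mem_right _ _ (hF (i + 1) b j)
  exact one_ne_zero ((map_one (constantCoeff (R := k) (σ := Fin (r + 1)))).symm.trans (constantCoeff_of_mem_irrel h2))

end GrSyzLib
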