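import Groth.Agent.GrSyzLib.Hilbert
import Mathlib.LinearAlgebra.Matrix.ToLin
import Mathlib.RingTheory.Ideal.Quotient.Operations

/-! Minimal graded free resolutions over a polynomial ring. -/

set_option autoImplicit false
universe u

open MvPolynomial

noncomputable section

namespace GrSyzLib

variable (k : Type u) [Field k] (r : ℕ)

theorem mem_irrel_iff (p : MvPolynomial (Fin (r + 1)) k) :
    p ∈ (GrSyz.irrel (GrSyz.stdGr k (Fin (r + 1)))).toIdeal ↔ constantCoeff p = 0 := by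
  refine ⟨constantCoeff_of_mem_irrel, fun h => ?_⟩
  rw [p.as_sum]
  refine sum_mem fun d hd => Ideal.subset_span ⟨(d.degree : ℤ), ?_, ?_⟩
  · have : d ≠ 0 := by rintro rfl; exact (mem_support_iff.1 hd) h
    exact_mod_cast Nat.pos_of_ne_zero fun h0 => this (Finsupp.degree_eq_zero_iff _ |>.1 h0)
  · rw [GrSyz.mem_stdGr_iff]
    exact MvPolynomial.isWeightedHomogeneous_monomial _ _ _ (weight_one_eq r d)

theorem constantCoeff_eq_zero_of_mem {p : MvPolynomial (Fin (r + 1)) k} {n : ℤ} (hn : n ≠ 0)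
    (h : p ∈ GrSyz.stdGr k (Fin (r + 1)) n) : constantCoeff p = 0 := by
  rw [constantCoeff_eq]
  by_contra hc
  have := h hc
  rw [weight_one_eq] at this
  simp at this
  exact hn this.symm

/-- The degree zero component is the constant term. -/
theorem decompose_zero (p : MvPolynomial (Fin (r + 1)) k) :
    (DirectSum.decompose (GrSyz.stdGr k (Fin (r + 1))) p 0 : MvPolynomial (Fin (r + 1)) k) = C (constantCoeff p) := by
  classical
  induction p using DirectSum.Decomposition.inductionOn (GrSyz.stdGr k (Fin (r + 1))) with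
  | zero => simp
  | @homogeneous i p =>
    by_cases hi : i = 0
    · subst hi
      rw [DirectSum.decompose_of_mem_same _ p.2]
      refine MvPolynomial.ext _ _ fun d => ?_
      rw [coeff_C]
      split_ifs with h
      · subst h; rfl
      · by_contra hd
        have := p.2 hd
        rw [weight_one_eq] at this
        exact h ((Finsupp.degree_eq_zero_iff d).1 (by exact_mod_cast this)).symm
    · rw [DirectSum.decompose_of_mem_ne _ p.2 hi, constantCoeff_eq_zero_of_mem k r hi p.2, map_zero]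
  | add s t hs ht => simp only [DirectSum.decompose_add, DirectSum.add_apply, Submodule.coe_add, map_add, hs, ht]

/-- A map of free modules sending each basis vector into the piece of its degree. -/
def IsGrMap {n n' : ℕ} (a : Fin n → ℤ) (a' : Fin n' → ℤ)
    (f : (Fin n → MvPolynomial (Fin (r + 1)) k) →ₗ[MvPolynomial (Fin (r + 1)) k] (Fin n' → MvPolynomial (Fin (r + 1)) k)) : Prop :=
  ∀ b, f (Pi.single b 1) ∈ piece k r a' (a b)

/-- The constant terms of a map of free modules. -/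
def cmat {n n' : ℕ}
    (f : (Fin n → MvPolynomial (Fin (r + 1)) k) →ₗ[MvPolynomial (Fin (r + 1)) k] (Fin n' → MvPolynomial (Fin (r + 1)) k)) :
    Matrix (Fin n') (Fin n) k :=
  fun c b => constantCoeff (f (Pi.single b 1) c)

variable {k r}

theorem apply_eq_sum {n : ℕ} {N : Type*} [AddCommGroup N] [Module (MvPolynomial (Fin (r + 1)) k) N]
    (f : (Fin n → MvPolynomial (Fin (r + 1)) k) →ₗ[MvPolynomial (Fin (r + 1)) k] N) (v : Fin n → MvPolynomial (Fin (r + 1)) k) :
    f v = ∑ b, v b • f (Pi.single b 1) := by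
  conv_lhs => rw [pi_eq_sum_univ' v]
  rw [map_sum]
  exact Finset.sum_congr rfl fun b _ => map_smul f _ _

theorem IsGrMap.map_piece {n n' : ℕ} {a : Fin n → ℤ} {a' : Fin n' → ℤ}
    {f : (Fin n → MvPolynomial (Fin (r + 1)) k) →ₗ[MvPolynomial (Fin (r + 1)) k] (Fin n' → MvPolynomial (Fin (r + 1)) k)}
    (hf : IsGrMap k r a a' f) {d : ℤ} {v : Fin n → MvPolynomial (Fin (r + 1)) k} (hv : v ∈ piece k r a d) :
    f v ∈ piece k r a' d := by
  rw [apply_eq_sum f v, mem_piece]
  intro c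
  rw [Finset.sum_apply]
  refine sum_mem fun b _ => ?_
  have := SetLike.mul_mem_graded ((mem_piece k r).1 hv b) ((mem_piece k r).1 (hf b) c)
  rwa [show d - a b + (a b - a' c) = d - a' c by ring] at this

theorem cmat_comp {n n' n'' : ℕ}
    (f : (Fin n → MvPolynomial (Fin (r + 1)) k) →ₗ[MvPolynomial (Fin (r + 1)) k] (Fin n' → MvPolynomial (Fin (r + 1)) k))
    (g : (Fin n' → MvPolynomial (Fin (r + 1)) k) →ₗ[MvPolynomial (Fin (r + 1)) k] (Fin n'' → MvPolynomial (Fin (r + 1)) k)) :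
    cmat k r (g ∘ₗ f) = cmat k r g * cmat k r f := by
  ext c b
  simp only [cmat, Matrix.mul_apply, LinearMap.comp_apply]
  rw [apply_eq_sum g (f (Pi.single b 1)), Finset.sum_apply, map_sum]
  exact Finset.sum_congr rfl fun x _ => by rw [Pi.smul_apply, smul_eq_mul, map_mul, mul_comm]

theorem cmat_add {n n' : ℕ}
    (f g : (Fin n → MvPolynomial (Fin (r + 1)) k) →ₗ[MvPolynomial (Fin (r + 1)) k] (Fin n' → MvPolynomial (Fin (r + 1)) k)) :
    cmat k r (f + g) = cmat k r f + cmat k r g := by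
  ext c b; simp [cmat]

theorem cmat_sub {n n' : ℕ}
    (f g : (Fin n → MvPolynomial (Fin (r + 1)) k) →ₗ[MvPolynomial (Fin (r + 1)) k] (Fin n' → MvPolynomial (Fin (r + 1)) k)) :
    cmat k r (f - g) = cmat k r f - cmat k r g := by
  ext c b; simp [cmat]

theorem cmat_id {n : ℕ} : cmat k r (LinearMap.id : (Fin n → MvPolynomial (Fin (r + 1)) k) →ₗ[MvPolynomial (Fin (r + 1)) k] _) = 1 := by
  ext c b
  simp only [cmat, LinearMap.id_apply, Matrix.one_apply, Pi.single_apply]
  split_ifs <;> simp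

/-- Maps out of free modules lift through maps whose range contains their image. -/
theorem exists_lift {n : ℕ} {N P : Type*} [AddCommGroup N] [Module (MvPolynomial (Fin (r + 1)) k) N]
    [AddCommGroup P] [Module (MvPolynomial (Fin (r + 1)) k) P]
    (f : (Fin n → MvPolynomial (Fin (r + 1)) k) →ₗ[MvPolynomial (Fin (r + 1)) k] N) (g : P →ₗ[MvPolynomial (Fin (r + 1)) k] N)
    (h : ∀ v, f v ∈ LinearMap.range g) : ∃ l, g ∘ₗ l = f := by
  choose w hw using fun b => h (Pi.single b 1)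
  refine ⟨Fintype.linearCombination _ w, LinearMap.ext fun v => ?_⟩
  rw [LinearMap.comp_apply, Fintype.linearCombination_apply, map_sum, apply_eq_sum f v]
  exact Finset.sum_congr rfl fun b _ => by rw [map_smul, hw]

variable {M : Type u} [AddCommGroup M] [Module k M] [Module (MvPolynomial (Fin (r + 1)) k) M]
  [IsScalarTower k (MvPolynomial (Fin (r + 1)) k) M]
  {ℳ : ℤ → Submodule k M} [DirectSum.Decomposition ℳ] [SetLike.GradedSMul (GrSyz.stdGr k (Fin (r + 1))) ℳ]
  (F F' : GrSyz.FreeRes (GrSyz.stdGr k (Fin (r + 1))) ℳ)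

omit [IsScalarTower k (MvPolynomial (Fin (r + 1)) k) M] in
theorem isGrMap_dLin (i : ℕ) : IsGrMap k r (F.deg (i + 1)) (F.deg i) (F.dLin i) := fun b =>
  (mem_piece k r).2 fun a => by
    rw [show F.dLin i (Pi.single b 1) a = F.d i a b by
      simp [GrSyz.FreeRes.dLin, Matrix.mulVec_single_one]]
    exact F.d_mem i a b

omit [IsScalarTower k (MvPolynomial (Fin (r + 1)) k) M] in
theorem cmat_dLin (hF : F.IsMinimal (GrSyz.irrel (GrSyz.stdGr k (Fin (r + 1)))).toIdeal) (i : ℕ) :
    cmat k r (F.dLin i) = 0 := by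
  ext a b
  simp only [cmat, GrSyz.FreeRes.dLin, Matrix.mulVecLin_apply, Matrix.mulVec_single_one, Matrix.col_apply]
  exact (mem_irrel_iff k r _).1 (hF i a b)

/-- Graded comparison maps. -/
theorem exists_chainMap : ∃ φ : ∀ i, (Fin (F.rk i) → MvPolynomial (Fin (r + 1)) k) →ₗ[MvPolynomial (Fin (r + 1)) k] (Fin (F'.rk i) → MvPolynomial (Fin (r + 1)) k),
    (∀ i, IsGrMap k r (F.deg i) (F'.deg i) (φ i)) ∧ F'.augLin ∘ₗ φ 0 = F.augLin ∧
      ∀ i, F'.dLin i ∘ₗ φ (i + 1) = φ i ∘ₗ F.dLin i := by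
  classical
  let T : ℕ → Type u := fun i => {φ : (Fin (F.rk i) → MvPolynomial (Fin (r + 1)) k) →ₗ[MvPolynomial (Fin (r + 1)) k] (Fin (F'.rk i) → MvPolynomial (Fin (r + 1)) k) //
    IsGrMap k r (F.deg i) (F'.deg i) φ ∧ ∀ v, φ (F.dLin i v) ∈ LinearMap.range (F'.dLin i)}
  have base : ∃ φ : T 0, F'.augLin ∘ₗ φ.1 = F.augLin := by
    choose w hw using fun b => F'.aug_surjective (F.aug b)
    let f := Fintype.linearCombination (MvPolynomial (Fin (r + 1)) k) fun b => proj k r (F'.deg 0) (F.deg 0 b) (w b)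
    have hf : ∀ b, f (Pi.single b 1) = proj k r (F'.deg 0) (F.deg 0 b) (w b) := fun b => by
      rw [Fintype.linearCombination_apply_single, one_smul]
    have hcomm : F'.augLin ∘ₗ f = F.augLin := by
      refine LinearMap.ext fun v => ?_
      rw [apply_eq_sum (F'.augLin ∘ₗ f) v, apply_eq_sum F.augLin v]
      refine Finset.sum_congr rfl fun b _ => ?_
      rw [LinearMap.comp_apply, hf, augLin_proj, show F'.augLin (w b) = F.aug b from hw b,
        DirectSum.decompose_of_mem_same _ (F.aug_mem b), GrSyz.FreeRes.augLin, Fintype.linearCombination_apply_single, one_smul]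
    refine ⟨⟨f, fun b => hf b ▸ proj_mem k r _ _ _, fun v => ?_⟩, hcomm⟩
    rw [← F'.exact_zero, LinearMap.mem_ker]
    show (F'.augLin ∘ₗ f) (F.dLin 0 v) = 0
    rw [hcomm]
    exact F.exact_zero.ge (LinearMap.mem_range_self _ v)
  have step : ∀ i (φ : T i), ∃ φ' : T (i + 1), F'.dLin i ∘ₗ φ'.1 = φ.1 ∘ₗ F.dLin i := by
    intro i φ
    choose w hw using fun b => φ.2.2 (Pi.single b 1)
    let f := Fintype.linearCombination (MvPolynomial (Fin (r + 1)) k) fun b => proj k r (F'.deg (i + 1)) (F.deg (i + 1) b) (w b)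
    have hf : ∀ b, f (Pi.single b 1) = proj k r (F'.deg (i + 1)) (F.deg (i + 1) b) (w b) := fun b => by
      rw [Fintype.linearCombination_apply_single, one_smul]
    have hcomm : F'.dLin i ∘ₗ f = φ.1 ∘ₗ F.dLin i := by
      refine LinearMap.ext fun v => ?_
      rw [apply_eq_sum (F'.dLin i ∘ₗ f) v, apply_eq_sum (φ.1 ∘ₗ F.dLin i) v]
      refine Finset.sum_congr rfl fun b _ => ?_
      rw [LinearMap.comp_apply, LinearMap.comp_apply, hf, dLin_proj, hw b,
        proj_eq k r (φ.2.1.map_piece (isGrMap_dLin F i b))]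
    refine ⟨⟨f, fun b => hf b ▸ proj_mem k r _ _ _, fun v => ?_⟩, hcomm⟩
    rw [← F'.exact_succ, LinearMap.mem_ker]
    show (F'.dLin i ∘ₗ f) (F.dLin (i + 1) v) = 0
    rw [hcomm, LinearMap.comp_apply, show F.dLin i (F.dLin (i + 1) v) = 0 from (F.exact_succ i).ge (LinearMap.mem_range_self _ v),
      map_zero]
  obtain ⟨φ0, h0⟩ := base
  choose nx hnx using step
  let seq : ∀ i, T i := fun i => Nat.rec φ0 (fun i p => nx i p) i
  exact ⟨fun i => (seq i).1, fun i => (seq i).2.1, h0, fun i => hnx i (seq i)⟩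

/-- Chain endomorphisms over zero of a minimal resolution vanish modulo the irrelevant ideal. -/
theorem cmat_eq_zero (hF : F.IsMinimal (GrSyz.irrel (GrSyz.stdGr k (Fin (r + 1)))).toIdeal)
    (e : ∀ i, (Fin (F.rk i) → MvPolynomial (Fin (r + 1)) k) →ₗ[MvPolynomial (Fin (r + 1)) k] (Fin (F.rk i) → MvPolynomial (Fin (r + 1)) k))
    (h0 : ∀ v, F.augLin (e 0 v) = 0) (hs : ∀ i, F.dLin i ∘ₗ e (i + 1) = e i ∘ₗ F.dLin i) (i : ℕ) :
    cmat k r (e i) = 0 := by
  suffices ∀ i, cmat k r (e i) = 0 ∧ ∃ h, (e i - F.dLin i ∘ₗ h) ∘ₗ F.dLin i = 0 from (this i).1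
  intro i
  induction i with
  | zero =>
    obtain ⟨h, hh⟩ := exists_lift (e 0) (F.dLin 0) fun v => by rw [← F.exact_zero]; exact h0 v
    refine ⟨?_, h, by rw [hh, sub_self, LinearMap.zero_comp]⟩
    rw [← hh, cmat_comp, cmat_dLin F hF, Matrix.zero_mul]
  | succ i ih =>
    obtain ⟨-, h, hh⟩ := ih
    obtain ⟨h', hh'⟩ := exists_lift (e (i + 1) - h ∘ₗ F.dLin i) (F.dLin (i + 1)) fun v => by
      rw [← F.exact_succ, LinearMap.mem_ker]
      show (F.dLin i ∘ₗ (e (i + 1) - h ∘ₗ F.dLin i)) v = 0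
      rw [LinearMap.comp_sub, hs, ← LinearMap.comp_assoc, ← LinearMap.sub_comp, hh]
      rfl
    refine ⟨?_, h', ?_⟩
    · rw [show e (i + 1) = F.dLin (i + 1) ∘ₗ h' + h ∘ₗ F.dLin i by rw [hh']; abel, cmat_add, cmat_comp, cmat_comp,
        cmat_dLin F hF, cmat_dLin F hF, Matrix.zero_mul, Matrix.mul_zero, add_zero]
    · rw [hh', sub_sub_cancel, LinearMap.comp_assoc]
      refine LinearMap.ext fun v => ?_
      rw [LinearMap.comp_apply, LinearMap.comp_apply, show F.dLin i (F.dLin (i + 1) v) = 0 from (F.exact_succ i).ge (LinearMap.mem_range_self _ v),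
        map_zero, LinearMap.zero_apply]

theorem betti_le (hF : F.IsMinimal (GrSyz.irrel (GrSyz.stdGr k (Fin (r + 1)))).toIdeal) (i : ℕ) (j : ℤ) :
    F.betti i j ≤ F'.betti i j := by
  classical
  obtain ⟨φ, hφg, hφ0, hφs⟩ := exists_chainMap F F'
  obtain ⟨ψ, hψg, hψ0, hψs⟩ := exists_chainMap F' F
  have h1 := cmat_eq_zero F hF (fun i => LinearMap.id - ψ i ∘ₗ φ i)
    (fun v => by
      rw [LinearMap.sub_apply, LinearMap.id_apply, map_sub, sub_eq_zero]
      exact ((LinearMap.congr_fun hψ0 (φ 0 v)).trans (LinearMap.congr_fun hφ0 v)).symm)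
    (fun i => by
      show F.dLin i ∘ₗ (LinearMap.id - ψ (i + 1) ∘ₗ φ (i + 1)) = (LinearMap.id - ψ i ∘ₗ φ i) ∘ₗ F.dLin i
      rw [LinearMap.comp_sub, LinearMap.sub_comp, LinearMap.comp_id, LinearMap.id_comp, ← LinearMap.comp_assoc,
        hψs, LinearMap.comp_assoc, hφs, ← LinearMap.comp_assoc]) i
  rw [cmat_sub, cmat_id, cmat_comp, sub_eq_zero] at h1
  let B := {b : Fin (F.rk i) // F.deg i b = j}
  let B' := {b : Fin (F'.rk i) // F'.deg i b = j}
  let A : Matrix B' B k := fun c b => cmat k r (φ i) c.1 b.1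
  let D : Matrix B B' k := fun b c => cmat k r (ψ i) b.1 c.1
  have hDA : D * A = 1 := by
    ext b b'
    rw [Matrix.mul_apply]
    have h2 := congrFun (congrFun h1 b.1) b'.1
    rw [Matrix.mul_apply, Matrix.one_apply] at h2
    rw [Matrix.one_apply, if_congr Subtype.ext_iff rfl rfl, h2,
      ← Finset.sum_subtype (Finset.univ.filter fun c => F'.deg i c = j) (fun c => by simp)
        (fun c => cmat k r (ψ i) b.1 c * cmat k r (φ i) c b'.1)]
    refine Finset.sum_subset (Finset.filter_subset _ _) fun c _ hc => ?_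
    rw [show cmat k r (φ i) c b'.1 = 0 from constantCoeff_eq_zero_of_mem k r
      (sub_ne_zero.2 fun e => hc (Finset.mem_filter.2 ⟨Finset.mem_univ c, e.symm.trans b'.2⟩))
      ((mem_piece k r).1 (hφg i b'.1) c), mul_zero]
  have hinj : Function.Injective A.mulVecLin := Function.LeftInverse.injective (g := D.mulVecLin) fun v => by
    rw [Matrix.mulVecLin_apply, Matrix.mulVecLin_apply, Matrix.mulVec_mulVec, hDA, Matrix.one_mulVec]
  have h3 := LinearMap.finrank_le_finrank_of_injective hinj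
  rw [Module.finrank_fintype_fun_eq_card, Module.finrank_fintype_fun_eq_card, Fintype.card_subtype, Fintype.card_subtype] at h3
  exact h3

theorem betti_eq (hF : F.IsMinimal (GrSyz.irrel (GrSyz.stdGr k (Fin (r + 1)))).toIdeal)
    (hF' : F'.IsMinimal (GrSyz.irrel (GrSyz.stdGr k (Fin (r + 1)))).toIdeal) (i : ℕ) (j : ℤ) :
    F.betti i j = F'.betti i j :=
  le_antisymm (betti_le F F' hF i j) (betti_le F' F hF' i j)

end GrSyzLib
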