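import Groth.Agent.GrSyzLib.Minimal
import Mathlib.RingTheory.Polynomial.Basic
import Mathlib.RingTheory.Noetherian.Basic

/-! Existence of minimal graded free resolutions. -/

set_option autoImplicit false
universe u

open MvPolynomial

noncomputable section

namespace GrSyzLib

variable {k : Type u} [Field k] {r : ℕ}

/-- A relation with a nonzero constant coefficient makes a homogeneous generator redundant. -/
theorem mem_span_of_relation {N : Type*} [AddCommGroup N] [Module (MvPolynomial (Fin (r + 1)) k) N] {n : ℕ}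
    (z : Fin n → N) (e : Fin n → ℤ)
    (hcomp : ∀ c : Fin n → MvPolynomial (Fin (r + 1)) k, ∑ b, c b • z b = 0 → ∀ d,
      ∑ b, proj k r e d c b • z b = 0)
    (c : Fin n → MvPolynomial (Fin (r + 1)) k) (hc : ∑ b, c b • z b = 0) (b0 : Fin n) (h0 : constantCoeff (c b0) ≠ 0) :
    z b0 ∈ Submodule.span (MvPolynomial (Fin (r + 1)) k) (z '' {b | b ≠ b0}) := by
  classical
  have h1 := hcomp c hc (e b0)
  rw [← Finset.add_sum_erase _ _ (Finset.mem_univ b0), show proj k r e (e b0) c b0 = C (constantCoeff (c b0)) by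
    rw [proj, sub_self, decompose_zero], add_eq_zero_iff_eq_neg] at h1
  have h2 : z b0 = (C (constantCoeff (c b0))⁻¹ : MvPolynomial (Fin (r + 1)) k) •
      (C (constantCoeff (c b0)) : MvPolynomial (Fin (r + 1)) k) • z b0 := by
    rw [smul_smul, ← map_mul, inv_mul_cancel₀ h0, map_one, one_smul]
  rw [h2, h1]
  refine Submodule.smul_mem _ _ (neg_mem (sum_mem fun b hb => Submodule.smul_mem _ _ (Submodule.subset_span ?_)))
  exact ⟨b, (Finset.mem_erase.1 hb).1, rfl⟩

theorem comp_free {n n' : ℕ} (z : Fin n → Fin n' → MvPolynomial (Fin (r + 1)) k) (e : Fin n → ℤ) (a : Fin n' → ℤ)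
    (hz : ∀ b, z b ∈ piece k r a (e b)) (c : Fin n → MvPolynomial (Fin (r + 1)) k) (d : ℤ) :
    proj k r a d (∑ b, c b • z b) = ∑ b, proj k r e d c b • z b := by
  classical
  funext x
  simp only [proj, Finset.sum_apply, Pi.smul_apply, smul_eq_mul, decompose_finsetSum]
  refine Finset.sum_congr rfl fun b _ => ?_
  rw [mul_comm (c b), decompose_mul_of_mem ((mem_piece k r).1 (hz b) x), mul_comm,
    show d - a x - (e b - a x) = d - e b by ring]

variable {M : Type u} [AddCommGroup M] [Module k M] [Module (MvPolynomial (Fin (r + 1)) k) M]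
  [IsScalarTower k (MvPolynomial (Fin (r + 1)) k) M]
  {ℳ : ℤ → Submodule k M} [DirectSum.Decomposition ℳ] [SetLike.GradedSMul (GrSyz.stdGr k (Fin (r + 1))) ℳ]

theorem comp_mod {n : ℕ} (z : Fin n → M) (e : Fin n → ℤ) (hz : ∀ b, z b ∈ ℳ (e b))
    (c : Fin n → MvPolynomial (Fin (r + 1)) k) (d : ℤ) :
    (DirectSum.decompose ℳ (∑ b, c b • z b) d : M) = ∑ b, proj k r e d c b • z b := by
  simp only [decompose_finsetSum, proj]
  exact Finset.sum_congr rfl fun b _ => decompose_smul_of_mem (hz b) _ _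

/-- Minimal homogeneous generators of a graded module. -/
theorem exists_min_gens_mod [Module.Finite (MvPolynomial (Fin (r + 1)) k) M] :
    ∃ (n : ℕ) (e : Fin n → ℤ) (z : Fin n → M), (∀ b, z b ∈ ℳ (e b)) ∧
      Submodule.span (MvPolynomial (Fin (r + 1)) k) (Set.range z) = ⊤ ∧
      ∀ b, z b ∉ Submodule.span (MvPolynomial (Fin (r + 1)) k) (z '' {b' | b' ≠ b}) := by
  classical
  have hex : ∃ n, ∃ (e : Fin n → ℤ) (z : Fin n → M), (∀ b, z b ∈ ℳ (e b)) ∧
      Submodule.span (MvPolynomial (Fin (r + 1)) k) (Set.range z) = ⊤ := by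
    obtain ⟨s, hs⟩ := (Module.Finite.fg_top : (⊤ : Submodule (MvPolynomial (Fin (r + 1)) k) M).FG)
    let T : Finset (M × ℤ) := s.biUnion fun m => (DirectSum.decompose ℳ m).support.image fun i => (m, i)
    let ee := T.equivFin.symm
    refine ⟨T.card, fun b => (ee b).1.2, fun b => (DirectSum.decompose ℳ (ee b).1.1 (ee b).1.2 : M), fun b => SetLike.coe_mem _, ?_⟩
    rw [eq_top_iff, ← hs, Submodule.span_le]
    intro m hm
    rw [SetLike.mem_coe, ← DirectSum.sum_support_decompose ℳ m]
    refine sum_mem fun i hi => Submodule.subset_span ?_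
    have hT : (m, i) ∈ T := Finset.mem_biUnion.2 ⟨m, hm, Finset.mem_image.2 ⟨i, hi, rfl⟩⟩
    exact ⟨T.equivFin ⟨_, hT⟩, by simp only [ee]; rw [Equiv.symm_apply_apply]⟩
  obtain ⟨e, z, hz, hsp⟩ := Nat.find_spec hex
  refine ⟨_, e, z, hz, hsp, fun b hb => ?_⟩
  obtain ⟨n', hn'⟩ : ∃ n', Nat.find hex = n' + 1 := ⟨Nat.find hex - 1, by have := b.2; omega⟩
  refine Nat.find_min hex (show n' < Nat.find hex by omega)
    ⟨fun j => e (Fin.cast hn'.symm ((Fin.cast hn' b).succAbove j)), fun j => z (Fin.cast hn'.symm ((Fin.cast hn' b).succAbove j)),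
      fun j => hz _, ?_⟩
  refine eq_top_iff.2 (hsp.ge.trans (Submodule.span_le.2 ?_))
  rintro _ ⟨l, rfl⟩
  have hother : ∀ l, l ≠ b → z l ∈ Submodule.span (MvPolynomial (Fin (r + 1)) k)
      (Set.range fun j => z (Fin.cast hn'.symm ((Fin.cast hn' b).succAbove j))) := fun l hl => by
    obtain ⟨j, hj⟩ := Fin.exists_succAbove_eq (x := Fin.cast hn' l) (y := Fin.cast hn' b) fun h => hl (Fin.cast_injective hn' h)
    exact Submodule.subset_span ⟨j, show z _ = z l by rw [hj]; rfl⟩
  rcases eq_or_ne l b with rfl | hl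
  · exact Submodule.span_le.2 (by rintro _ ⟨l', hl', rfl⟩; exact hother l' hl') hb
  · exact hother l hl

theorem sum_proj {n : ℕ} (a : Fin n → ℤ) (v : Fin n → MvPolynomial (Fin (r + 1)) k) :
    ∃ D : Finset ℤ, v = ∑ d ∈ D, proj k r a d v := by
  classical
  refine ⟨Finset.univ.biUnion fun b => (DirectSum.decompose (GrSyz.stdGr k (Fin (r + 1))) (v b)).support.image fun i => i + a b, ?_⟩
  funext b
  rw [Finset.sum_apply, ← Finset.sum_subset (Finset.subset_biUnion_of_mem
    (fun b => (DirectSum.decompose (GrSyz.stdGr k (Fin (r + 1))) (v b)).support.image fun i => i + a b) (Finset.mem_univ b)),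
    Finset.sum_image fun x _ y _ h => by simpa using h]
  · conv_lhs => rw [← DirectSum.sum_support_decompose (GrSyz.stdGr k (Fin (r + 1))) (v b)]
    exact Finset.sum_congr rfl fun i _ => by rw [proj, add_sub_cancel_right]
  · intro d _ hd
    have : DirectSum.decompose (GrSyz.stdGr k (Fin (r + 1))) (v b) (d - a b) = 0 := by
      by_contra h
      exact hd (Finset.mem_image.2 ⟨d - a b, DFinsupp.mem_support_toFun _ _ |>.2 h, sub_add_cancel d (a b)⟩)
    rw [proj, this, ZeroMemClass.coe_zero]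

/-- Minimal homogeneous generators of a graded submodule of a free module. -/
theorem exists_min_gens_free {n : ℕ} (a : Fin n → ℤ)
    (Z : Submodule (MvPolynomial (Fin (r + 1)) k) (Fin n → MvPolynomial (Fin (r + 1)) k))
    (hZ : ∀ v ∈ Z, ∀ d, proj k r a d v ∈ Z) :
    ∃ (n' : ℕ) (e : Fin n' → ℤ) (z : Fin n' → Fin n → MvPolynomial (Fin (r + 1)) k), (∀ b, z b ∈ piece k r a (e b)) ∧
      Submodule.span (MvPolynomial (Fin (r + 1)) k) (Set.range z) = Z ∧
      ∀ b, z b ∉ Submodule.span (MvPolynomial (Fin (r + 1)) k) (z '' {b' | b' ≠ b}) := by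
  classical
  have hex : ∃ n', ∃ (e : Fin n' → ℤ) (z : Fin n' → Fin n → MvPolynomial (Fin (r + 1)) k), (∀ b, z b ∈ piece k r a (e b)) ∧
      Submodule.span (MvPolynomial (Fin (r + 1)) k) (Set.range z) = Z := by
    obtain ⟨s, hs⟩ := IsNoetherian.noetherian Z
    choose D hD using fun v => sum_proj (k := k) (r := r) a v
    let T : Finset ((Fin n → MvPolynomial (Fin (r + 1)) k) × ℤ) := s.biUnion fun m => (D m).image fun i => (m, i)
    let ee := T.equivFin.symm
    refine ⟨T.card, fun b => (ee b).1.2, fun b => proj k r a (ee b).1.2 (ee b).1.1, fun b => proj_mem k r _ _ _,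
      le_antisymm (Submodule.span_le.2 ?_) ?_⟩
    · rintro _ ⟨b, rfl⟩
      refine hZ _ ?_ _
      obtain ⟨m, hm, hb⟩ := Finset.mem_biUnion.1 (ee b).2
      obtain ⟨i, -, hi⟩ := Finset.mem_image.1 hb
      rw [← hi, ← hs]
      exact Submodule.subset_span hm
    · conv_lhs => rw [← hs]
      refine Submodule.span_le.2 fun m hm => ?_
      rw [SetLike.mem_coe, hD m]
      refine sum_mem fun i hi => Submodule.subset_span ?_
      have hT : (m, i) ∈ T := Finset.mem_biUnion.2 ⟨m, hm, Finset.mem_image.2 ⟨i, hi, rfl⟩⟩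
      exact ⟨T.equivFin ⟨_, hT⟩, by simp only [ee]; rw [Equiv.symm_apply_apply]⟩
  obtain ⟨e, z, hz, hsp⟩ := Nat.find_spec hex
  refine ⟨_, e, z, hz, hsp, fun b hb => ?_⟩
  obtain ⟨n', hn'⟩ : ∃ n', Nat.find hex = n' + 1 := ⟨Nat.find hex - 1, by have := b.2; omega⟩
  refine Nat.find_min hex (show n' < Nat.find hex by omega)
    ⟨fun j => e (Fin.cast hn'.symm ((Fin.cast hn' b).succAbove j)), fun j => z (Fin.cast hn'.symm ((Fin.cast hn' b).succAbove j)),
      fun j => hz _, ?_⟩
  refine le_antisymm (Submodule.span_le.2 (by rintro _ ⟨j, rfl⟩; exact hsp.le (Submodule.subset_span ⟨_, rfl⟩))) ?_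
  refine hsp.ge.trans (Submodule.span_le.2 ?_)
  rintro _ ⟨l, rfl⟩
  have hother : ∀ l, l ≠ b → z l ∈ Submodule.span (MvPolynomial (Fin (r + 1)) k)
      (Set.range fun j => z (Fin.cast hn'.symm ((Fin.cast hn' b).succAbove j))) := fun l hl => by
    obtain ⟨j, hj⟩ := Fin.exists_succAbove_eq (x := Fin.cast hn' l) (y := Fin.cast hn' b) fun h => hl (Fin.cast_injective hn' h)
    exact Submodule.subset_span ⟨j, show z _ = z l by rw [hj]; rfl⟩
  rcases eq_or_ne l b with rfl | hl
  · exact Submodule.span_le.2 (by rintro _ ⟨l', hl', rfl⟩; exact hother l' hl') hb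
  · exact hother l hl

theorem mulVecLin_eq {n n' : ℕ} (z : Fin n → Fin n' → MvPolynomial (Fin (r + 1)) k) :
    Matrix.mulVecLin (fun a b => z b a : Matrix (Fin n') (Fin n) (MvPolynomial (Fin (r + 1)) k)) =
      Fintype.linearCombination (MvPolynomial (Fin (r + 1)) k) z := by
  refine LinearMap.ext fun v => funext fun a => ?_
  simp only [Matrix.mulVecLin_apply, Matrix.mulVec, dotProduct, Fintype.linearCombination_apply, Finset.sum_apply,
    Pi.smul_apply, smul_eq_mul]
  exact Finset.sum_congr rfl fun b _ => mul_comm _ _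

/-- A stage of the construction. -/
structure Stage (k : Type u) [Field k] (r : ℕ) where
  n : ℕ
  a : Fin n → ℤ
  Z : Submodule (MvPolynomial (Fin (r + 1)) k) (Fin n → MvPolynomial (Fin (r + 1)) k)
  graded : ∀ v ∈ Z, ∀ d, proj k r a d v ∈ Z
  small : ∀ v ∈ Z, ∀ b, constantCoeff (v b) = 0

/-- Kernels of minimal generating families are small graded submodules. -/
def Stage.mk' {N : Type*} [AddCommGroup N] [Module (MvPolynomial (Fin (r + 1)) k) N] {n : ℕ} (a : Fin n → ℤ) (z : Fin n → N)
    (hcomp : ∀ c : Fin n → MvPolynomial (Fin (r + 1)) k, ∑ b, c b • z b = 0 → ∀ d, ∑ b, proj k r a d c b • z b = 0)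
    (hirr : ∀ b, z b ∉ Submodule.span (MvPolynomial (Fin (r + 1)) k) (z '' {b' | b' ≠ b})) : Stage k r where
  n := n
  a := a
  Z := LinearMap.ker (Fintype.linearCombination (MvPolynomial (Fin (r + 1)) k) z)
  graded v hv d := by
    rw [LinearMap.mem_ker, Fintype.linearCombination_apply] at hv ⊢
    exact hcomp v hv d
  small v hv b := by
    by_contra h
    rw [LinearMap.mem_ker, Fintype.linearCombination_apply] at hv
    exact hirr b (mem_span_of_relation z a hcomp v hv b h)

theorem Stage.exists_next (s : Stage k r) :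
    ∃ (t : Stage k r) (z : Fin t.n → Fin s.n → MvPolynomial (Fin (r + 1)) k),
      (∀ b, z b ∈ piece k r s.a (t.a b)) ∧ LinearMap.range (Fintype.linearCombination (MvPolynomial (Fin (r + 1)) k) z) = s.Z ∧
      LinearMap.ker (Fintype.linearCombination (MvPolynomial (Fin (r + 1)) k) z) = t.Z := by
  obtain ⟨n', e, z, hz, hsp, hirr⟩ := exists_min_gens_free s.a s.Z s.graded
  refine ⟨Stage.mk' e z (fun c hc d => ?_) hirr, z, hz, (Fintype.range_linearCombination _ _).trans hsp, rfl⟩
  rw [← comp_free z e s.a hz, hc]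
  funext x
  simp [proj]

theorem exists_minimal [Module.Finite (MvPolynomial (Fin (r + 1)) k) M] :
    ∃ F : GrSyz.FreeRes (GrSyz.stdGr k (Fin (r + 1))) ℳ, F.IsMinimal (GrSyz.irrel (GrSyz.stdGr k (Fin (r + 1)))).toIdeal := by
  classical
  obtain ⟨n, e, z, hz, hsp, hirr⟩ := exists_min_gens_mod (k := k) (r := r) (ℳ := ℳ)
  let s0 : Stage k r := Stage.mk' e z (fun c hc d => by rw [← comp_mod z e hz, hc]; simp) hirr
  choose nx w hw hrange hker using Stage.exists_next (k := k) (r := r)
  let st : ℕ → Stage k r := fun i => Nat.rec s0 (fun _ s => nx s) i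
  have hD : ∀ i, Matrix.mulVecLin (fun a b => w (st i) b a : Matrix (Fin (st i).n) (Fin (st (i + 1)).n) (MvPolynomial (Fin (r + 1)) k))
      = Fintype.linearCombination (MvPolynomial (Fin (r + 1)) k) (w (st i)) := fun i => mulVecLin_eq _
  refine ⟨{
    rk := fun i => (st i).n
    deg := fun i => (st i).a
    d := fun i => fun a b => w (st i) b a
    aug := z
    d_mem := fun i a b => (mem_piece k r).1 (hw (st i) b) a
    aug_mem := hz
    aug_surjective := LinearMap.range_eq_top.1 (by rw [← hsp]; exact Fintype.range_linearCombination _ _)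
    exact_zero := by rw [hD 0, hrange]; rfl
    exact_succ := fun i => by rw [hD i, hD (i + 1), hrange, hker] }, fun i a b => ?_⟩
  rw [mem_irrel_iff]
  refine (st i).small _ ?_ a
  rw [← hrange (st i)]
  exact ⟨Pi.single b 1, by rw [Fintype.linearCombination_apply_single, one_smul]⟩

end GrSyzLib
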