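import Mathlib
import Groth.Prelude.Def_GrSyz
import Groth.Agent.GrSyzLib.Hilbert

/-!
# The length of a cyclic graded module over a polynomial ring bounds its top degree plus its linear part
-/

set_option autoImplicit false
universe u

open MvPolynomial DirectSum
open scoped Classical

noncomputable section

namespace GrSyzLib

variable {k : Type u} [Field k] {r : ℕ} {N : Type u} [AddCommGroup N] [Module k N]
  [Module (MvPolynomial (Fin (r + 1)) k) N] [IsScalarTower k (MvPolynomial (Fin (r + 1)) k) N]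
  {𝒩 : ℤ → Submodule k N} [DirectSum.Decomposition 𝒩] [SetLike.GradedSMul (GrSyz.stdGr k (Fin (r + 1))) 𝒩]
  {v : N}

local notation "SS" => MvPolynomial (Fin (r + 1)) k
local notation "mm" => MvPolynomial.idealOfVars (Fin (r + 1)) k

theorem monomial_mem_stdGr' (e : Fin (r + 1) →₀ ℕ) (a : k) :
    monomial e a ∈ GrSyz.stdGr k (Fin (r + 1)) (e.degree : ℤ) := by
  rw [GrSyz.mem_stdGr_iff]
  exact isWeightedHomogeneous_monomial _ _ _ (weight_one_eq r e)

theorem component_pow_eq_zero {j : ℕ} {a : SS} (ha : a ∈ mm ^ (j + 1)) :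
    (decompose (GrSyz.stdGr k (Fin (r + 1))) a (j : ℤ) : SS) = 0 := by
  rw [a.as_sum, decompose_sum, DFinsupp.finsetSum_apply, Submodule.coe_sum]
  refine Finset.sum_eq_zero fun e he => decompose_of_mem_ne _ (monomial_mem_stdGr' e _) fun h => ?_
  have := (mem_pow_idealOfVars_iff _ _).1 ha e he
  omega

/-- The part of degree at least `j` of the module generated by `v`. -/
def tailSub (v : N) (j : ℕ) : Submodule SS N := Submodule.map (LinearMap.toSpanSingleton SS N v) (mm ^ j)

variable (hv : v ∈ 𝒩 0) (hgen : Function.Surjective (LinearMap.toSpanSingleton (MvPolynomial (Fin (r + 1)) k) N v))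

include hv in
theorem component_smul (p : SS) (d : ℤ) :
    (decompose 𝒩 (p • v) d : N) = (decompose (GrSyz.stdGr k (Fin (r + 1))) p d : SS) • v := by
  rw [decompose_smul_of_mem hv p d, sub_zero]

include hv in
theorem component_tailSub_eq_zero {j : ℕ} {x : N} (hx : x ∈ tailSub (k := k) (r := r) v (j + 1)) :
    (decompose 𝒩 x (j : ℤ) : N) = 0 := by
  obtain ⟨a, ha, rfl⟩ := hx
  rw [LinearMap.toSpanSingleton_apply, component_smul hv, component_pow_eq_zero ha, zero_smul]

include hv hgen in
theorem piece_le_tailSub {j : ℕ} {y : N} (hy : y ∈ 𝒩 (j : ℤ)) : y ∈ tailSub (k := k) (r := r) v j := by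
  obtain ⟨p, rfl⟩ := hgen y
  refine ⟨(decompose (GrSyz.stdGr k (Fin (r + 1))) p (j : ℤ) : SS), ?_, ?_⟩
  · have h := (GrSyz.mem_stdGr_iff k _ _ _).1 (decompose (GrSyz.stdGr k (Fin (r + 1))) p (j : ℤ)).2
    refine (mem_pow_idealOfVars_iff' _ _).2 fun x hx => by_contra fun hne => ?_
    have := h hne
    rw [weight_one_eq] at this
    omega
  · rw [LinearMap.toSpanSingleton_apply, LinearMap.toSpanSingleton_apply, ← component_smul hv]
    exact decompose_of_mem_same 𝒩 hy

include hv hgen in
theorem nonneg_of_piece_ne_bot {j : ℤ} (hj : 𝒩 j ≠ ⊥) : 0 ≤ j := by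
  by_contra h
  refine hj ((Submodule.eq_bot_iff _).2 fun y hy => ?_)
  obtain ⟨p, rfl⟩ := hgen y
  rw [← decompose_of_mem_same 𝒩 hy, LinearMap.toSpanSingleton_apply, component_smul hv]
  have h0 := (decompose (GrSyz.stdGr k (Fin (r + 1))) p j).2
  simp only [stdGr_neg k r (not_le.1 h), Submodule.mem_bot] at h0
  rw [h0, zero_smul]

include hv in
theorem tailSub_eq_bot {j : ℕ} (hj : 𝒩 (j : ℤ) = ⊥) : tailSub (k := k) (r := r) v j = ⊥ := by
  rw [tailSub, pow_idealOfVars_eq_span, Ideal.span, Submodule.map_span, Submodule.span_eq_bot]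
  rintro _ ⟨p, ⟨e, he, rfl⟩, rfl⟩
  have h1 : monomial e (1 : k) • v ∈ 𝒩 (j : ℤ) := by
    have := SetLike.GradedSMul.smul_mem (A := GrSyz.stdGr k (Fin (r + 1))) (B := 𝒩) (monomial_mem_stdGr' e (1 : k)) hv
    rwa [vadd_eq_add, add_zero, show (e.degree : ℤ) = j by exact_mod_cast he] at this
  rwa [hj, Submodule.mem_bot] at h1

theorem tailSub_antitone : Antitone (tailSub (k := k) (r := r) v) := fun _ _ h =>
  Submodule.map_mono (Ideal.pow_le_pow_right h)

include hv hgen in
theorem piece_ne_bot_of_le {j e : ℕ} (he : 𝒩 (e : ℤ) ≠ ⊥) (hje : j ≤ e) : 𝒩 (j : ℤ) ≠ ⊥ := fun h => by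
  obtain ⟨y, hy, hy0⟩ := (Submodule.ne_bot_iff _).1 he
  have := tailSub_antitone hje (piece_le_tailSub hv hgen hy)
  rw [tailSub_eq_bot hv h, Submodule.mem_bot] at this
  exact hy0 this

include hv hgen in
theorem height_succ_lt [IsArtinian SS N] [IsNoetherian SS N] {j : ℕ} (hj : 𝒩 (j : ℤ) ≠ ⊥) :
    Order.height (tailSub (k := k) (r := r) v (j + 1)) < Order.height (tailSub (k := k) (r := r) v j) := by
  refine Submodule.height_strictMono (lt_of_le_of_ne (tailSub_antitone (Nat.le_succ j)) fun h => ?_)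
  obtain ⟨y, hy, hy0⟩ := (Submodule.ne_bot_iff _).1 hj
  have h1 := component_tailSub_eq_zero hv (h.ge (piece_le_tailSub hv hgen hy))
  rw [decompose_of_mem_same 𝒩 hy] at h1
  exact hy0 h1

include hv hgen in
set_option maxHeartbeats 1000000 in
theorem height_two_add_finrank_le [IsArtinian SS N] [IsNoetherian SS N] [FiniteDimensional k (𝒩 1)] :
    Order.height (tailSub (k := k) (r := r) v 2) + (Module.finrank k (𝒩 1) : ℕ∞) ≤
      Order.height (tailSub (k := k) (r := r) v 1) := by
  let b := Module.finBasis k (𝒩 1)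
  let T : ℕ → Submodule SS N := fun i =>
    tailSub (k := k) (r := r) v 2 ⊔ Submodule.span SS ((fun l => (b l : N)) '' {l | (l : ℕ) < i})
  have hle : ∀ i, T i ≤ tailSub (k := k) (r := r) v 1 := fun i => sup_le (tailSub_antitone one_le_two)
    (Submodule.span_le.2 (by
      rintro _ ⟨l, -, rfl⟩
      exact piece_le_tailSub hv hgen (j := 1) (b l).2))
  have hstep : ∀ i (hi : i < Module.finrank k (𝒩 1)), T i < T (i + 1) := by
    intro i hi
    have hsub : {l : Fin (Module.finrank k (𝒩 1)) | (l : ℕ) < i} ⊆ {l | (l : ℕ) < i + 1} := fun l hl =>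
      Nat.lt_succ_of_lt hl
    refine lt_of_le_of_ne (sup_le_sup_left (Submodule.span_mono (Set.image_mono hsub)) _) fun h => ?_
    have hmem : (b ⟨i, hi⟩ : N) ∈ T i := h.ge (Submodule.mem_sup_right (Submodule.subset_span ⟨⟨i, hi⟩, Nat.lt_succ_self i, rfl⟩))
    obtain ⟨x, hx, z, hz, hxz⟩ := Submodule.mem_sup.1 hmem
    obtain ⟨c, hc, rfl⟩ := (Finsupp.mem_span_image_iff_linearCombination SS).1 hz
    rw [Finsupp.linearCombination_apply, Finsupp.sum] at hxz
    have h1 : (decompose 𝒩 (b ⟨i, hi⟩ : N) (1 : ℤ) : N) = (b ⟨i, hi⟩ : N) := decompose_of_mem_same 𝒩 (b ⟨i, hi⟩).2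
    rw [← hxz, decompose_add, DirectSum.add_apply, Submodule.coe_add,
      (by simpa using component_tailSub_eq_zero (j := 1) hv hx : (decompose 𝒩 x (1 : ℤ) : N) = 0), zero_add,
      decompose_sum, DFinsupp.finsetSum_apply, Submodule.coe_sum, hxz] at h1
    have h2 : b ⟨i, hi⟩ ∈ Submodule.span k (b '' {l | (l : ℕ) < i}) := by
      rw [show b ⟨i, hi⟩ = ∑ l ∈ c.support, constantCoeff (c l) • b l from Subtype.ext ?_]
      · exact Submodule.sum_mem _ fun l hl => Submodule.smul_mem _ _ (Submodule.subset_span ⟨l, hc hl, rfl⟩)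
      rw [← h1, Submodule.coe_sum]
      refine Finset.sum_congr rfl fun l _ => ?_
      rw [decompose_smul_of_mem (b l).2, show (1 : ℤ) - 1 = ((0 : ℕ) : ℤ) by simp]
      have h0 := (decompose (GrSyz.stdGr k (Fin (r + 1))) (c l) ((0 : ℕ) : ℤ)).2
      have hcc : constantCoeff ((decompose (GrSyz.stdGr k (Fin (r + 1))) (c l) ((0 : ℕ) : ℤ) : SS)) = constantCoeff (c l) := by
        conv_rhs => rw [← sum_support_decompose (GrSyz.stdGr k (Fin (r + 1))) (c l)]
        rw [map_sum]
        symm
        refine Finset.sum_eq_single _ (fun g _ hg => ?_) fun h => ?_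
        · rw [constantCoeff_eq]
          by_contra hne
          have := (GrSyz.mem_stdGr_iff k _ _ _).1 (decompose (GrSyz.stdGr k (Fin (r + 1))) (c l) g).2 hne
          rw [weight_one_eq] at this
          exact hg (by simpa using this.symm)
        · rw [DFinsupp.notMem_support_iff.1 h, ZeroMemClass.coe_zero, map_zero]
      obtain ⟨a, ha⟩ : ∃ a, (decompose (GrSyz.stdGr k (Fin (r + 1))) (c l) ((0 : ℕ) : ℤ) : SS) = C a := by
        refine ⟨constantCoeff ((decompose (GrSyz.stdGr k (Fin (r + 1))) (c l) ((0 : ℕ) : ℤ) : SS)), MvPolynomial.ext _ _ fun x => ?_⟩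
        rw [coeff_C]
        split_ifs with hx
        · subst hx; rw [constantCoeff_eq]
        · by_contra hne
          have := (GrSyz.mem_stdGr_iff k _ _ _).1 h0 hne
          rw [weight_one_eq] at this
          exact hx ((Finsupp.degree_eq_zero_iff x).1 (by omega)).symm
      rw [← hcc, ha, constantCoeff_C, ← MvPolynomial.algebraMap_eq, algebraMap_smul]
      rfl
    exact b.linearIndependent.notMem_span_image (by simp) h2
  have hind : ∀ i ≤ Module.finrank k (𝒩 1), Order.height (tailSub (k := k) (r := r) v 2) + (i : ℕ∞) ≤ Order.height (T i) := by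
    intro i hi
    induction i with
    | zero => exact le_trans (by simp) (Order.height_mono (le_sup_left : tailSub (k := k) (r := r) v 2 ≤ T 0))
    | succ i ih =>
      rw [Nat.cast_succ, ← add_assoc]
      exact (add_le_add_left (ih (by omega)) 1).trans (Order.add_one_le_iff_of_not_isMax (not_isMax_of_lt
        (Submodule.height_lt_top _ : _ < (⊤ : ℕ∞))) |>.2 (Submodule.height_strictMono (hstep i (by omega))))
  exact (hind _ le_rfl).trans (Order.height_mono (hle _))

include hv hgen in
/-- **Top degree plus the linear part is bounded by the length.** -/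
theorem add_finrank_le_length [FiniteDimensional k (𝒩 1)] {ℓ : ℕ} (hℓ : Module.length SS N = (ℓ : ℕ∞)) {e : ℕ}
    (he1 : 1 ≤ e) (he : 𝒩 (e : ℤ) ≠ ⊥) : e + Module.finrank k (𝒩 1) ≤ ℓ := by
  have hfl : IsFiniteLength SS N := Module.length_ne_top_iff.1 (by rw [hℓ]; exact ENat.coe_ne_top ℓ)
  haveI := (isFiniteLength_iff_isNoetherian_isArtinian.1 hfl).1
  haveI := (isFiniteLength_iff_isNoetherian_isArtinian.1 hfl).2
  let f : ℕ → ℕ := fun j => (Order.height (tailSub (k := k) (r := r) v j)).toNat
  have hf : ∀ j, (f j : ℕ∞) = Order.height (tailSub (k := k) (r := r) v j) := fun j =>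
    ENat.coe_toNat (Submodule.height_lt_top _).ne
  have hlt : ∀ j ≤ e, f (j + 1) < f j := fun j hj => by
    have := height_succ_lt hv hgen (piece_ne_bot_of_le hv hgen he hj)
    rw [← hf, ← hf] at this
    exact_mod_cast this
  have h2 : f 2 + Module.finrank k (𝒩 1) ≤ f 1 := by
    have := height_two_add_finrank_le hv hgen
    rw [← hf, ← hf] at this
    exact_mod_cast this
  have hind : ∀ i, i + 2 ≤ e + 1 → e + 1 - (i + 2) + f (e + 1) ≤ f (i + 2) := by
    intro i
    induction h : e + 1 - (i + 2) generalizing i with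
    | zero => intro hi; rw [zero_add, show i + 2 = e + 1 by omega]
    | succ d ih =>
      intro hi
      have := ih (i + 1) (by omega) (by omega)
      have := hlt (i + 2) (by omega)
      rw [show i + 1 + 2 = i + 2 + 1 by omega] at *
      omega
  have h0 : (f 0 : ℕ∞) ≤ Module.length SS N := by
    rw [hf, Module.length_eq_height]
    exact Order.height_mono le_top
  rw [hℓ] at h0
  have h0' : f 0 ≤ ℓ := by exact_mod_cast h0
  have := hlt 0 (by omega)
  have := hind 0 (by omega)
  simp only [zero_add] at *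
  omega

end GrSyzLib

end
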