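import Mathlib

/-!
# Koszul chains on the variables, indexed by finite sets of variables
-/

set_option autoImplicit false
universe u

open MvPolynomial

noncomputable section

namespace GrSyzLib

variable {ι : Type} [Fintype ι] [LinearOrder ι] {k : Type u} [CommRing k]
  {M N : Type u} [AddCommGroup M] [Module (MvPolynomial ι k) M] [AddCommGroup N] [Module (MvPolynomial ι k) N]

/-- The sign of adjoining a variable. -/
def ksgn (v : ι) (I : Finset ι) : ℤ := (-1) ^ (I.filter (· < v)).card

theorem ksgn_mul_self (v : ι) (I : Finset ι) : ksgn v I * ksgn v I = 1 := by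
  rw [ksgn, ← mul_pow]; norm_num

theorem ksgn_insert_self (v : ι) (I : Finset ι) : ksgn v (insert v I) = ksgn v I := by
  rw [ksgn, ksgn, Finset.filter_insert, if_neg (lt_irrefl v)]

theorem ksgn_insert_of_lt {v w : ι} {I : Finset ι} (h : v < w) (hv : v ∉ I) :
    ksgn w (insert v I) = - ksgn w I := by
  rw [ksgn, ksgn, Finset.filter_insert, if_pos h, Finset.card_insert_of_notMem (by simp [hv]), pow_succ]
  ring

theorem ksgn_insert_of_not_lt {v w : ι} {I : Finset ι} (h : ¬ v < w) : ksgn w (insert v I) = ksgn w I := by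
  rw [ksgn, ksgn, Finset.filter_insert, if_neg h]

theorem ksgn_comm {v w : ι} {I : Finset ι} (hvw : v ≠ w) (hv : v ∉ I) (hw : w ∉ I) :
    ksgn v I * ksgn w (insert v I) = -(ksgn w I * ksgn v (insert w I)) := by
  rcases lt_or_gt_of_ne hvw with h | h
  · rw [ksgn_insert_of_lt h hv, ksgn_insert_of_not_lt (not_lt.2 h.le)]; ring
  · rw [ksgn_insert_of_lt h hw, ksgn_insert_of_not_lt (not_lt.2 h.le)]; ring

/-- The Koszul differential. -/
def kd : (Finset ι → M) →ₗ[MvPolynomial ι k] (Finset ι → M) where
  toFun c I := ∑ v ∈ Iᶜ, ksgn v I • (X v : MvPolynomial ι k) • c (insert v I)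
  map_add' c c' := by
    funext I
    simp only [Pi.add_apply, smul_add, Finset.sum_add_distrib]
  map_smul' p c := by
    funext I
    simp only [Pi.smul_apply, RingHom.id_apply, Finset.smul_sum]
    exact Finset.sum_congr rfl fun v _ => by rw [smul_comm p (ksgn v I), smul_comm p (X v : MvPolynomial ι k)]

theorem kd_apply (c : Finset ι → M) (I : Finset ι) :
    kd (k := k) c I = ∑ v ∈ Iᶜ, ksgn v I • (X v : MvPolynomial ι k) • c (insert v I) := rfl

theorem kd_map (f : M →ₗ[MvPolynomial ι k] N) (c : Finset ι → M) (I : Finset ι) :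
    kd (k := k) (fun J => f (c J)) I = f (kd (k := k) c I) := by
  simp only [kd_apply, map_sum, map_zsmul, map_smul]

theorem kd_kd (c : Finset ι → M) : kd (k := k) (kd (k := k) c) = 0 := by
  funext I
  rw [kd_apply, Pi.zero_apply]
  simp only [kd_apply, Finset.smul_sum]
  rw [Finset.sum_sigma']
  refine Finset.sum_involution (fun a _ => ⟨a.2, a.1⟩) ?_ ?_ ?_ ?_
  · rintro ⟨v, w⟩ hvw
    simp only [Finset.mem_sigma, Finset.mem_compl, Finset.mem_insert, not_or] at hvw
    obtain ⟨hv, hwv, hw⟩ := hvw
    simp only [smul_comm (X v : MvPolynomial ι k) (ksgn w (insert v I)),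
      smul_comm (X w : MvPolynomial ι k) (ksgn v (insert w I)), ← mul_smul, Finset.insert_comm w v I]
    rw [ksgn_comm (Ne.symm hwv) hv hw, mul_comm (X w : MvPolynomial ι k) (X v), neg_smul]
    exact neg_add_cancel _
  · rintro ⟨v, w⟩ hvw -
    simp only [Finset.mem_sigma, Finset.mem_compl, Finset.mem_insert, not_or] at hvw
    exact fun h => hvw.2.1 (by simpa using congrArg Sigma.fst h)
  · rintro ⟨v, w⟩ hvw
    simp only [Finset.mem_sigma, Finset.mem_compl, Finset.mem_insert, not_or] at hvw ⊢
    exact ⟨hvw.2.2, Ne.symm hvw.2.1, hvw.1⟩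
  · intro a _
    rfl

/-- Exterior multiplication by a variable. -/
def kw (v : ι) (c : Finset ι → M) (I : Finset ι) : M :=
  if v ∈ I then ksgn v I • c (I.erase v) else 0

theorem kd_kw_add (v : ι) (c : Finset ι → M) (I : Finset ι) :
    kd (k := k) (kw v c) I + kw v (kd (k := k) c) I = (X v : MvPolynomial ι k) • c I := by
  by_cases hv : v ∈ I
  · rw [kw, if_pos hv, kd_apply, kd_apply]
    have he : (I.erase v)ᶜ = insert v Iᶜ := Finset.compl_erase
    rw [he, Finset.sum_insert (by simp [hv]), Finset.insert_erase hv, smul_add, Finset.smul_sum, ← add_assoc]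
    have hI : ksgn v I = ksgn v (I.erase v) := by
      conv_lhs => rw [← Finset.insert_erase hv]
      exact ksgn_insert_self v _
    rw [← mul_smul, hI, ksgn_mul_self, one_smul, add_right_comm, ← Finset.sum_add_distrib, Finset.sum_eq_zero,
      zero_add]
    intro w hw
    rw [Finset.mem_compl] at hw
    have hwv : w ≠ v := fun h => hw (h ▸ hv)
    rw [kw, if_pos (Finset.mem_insert_of_mem hv), Finset.erase_insert_of_ne hwv,
      smul_comm (X w : MvPolynomial ι k) (ksgn v (insert w I)), ← mul_smul, ← mul_smul, ← add_smul]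
    refine smul_eq_zero_of_left ?_ _
    have hw' : w ∉ I.erase v := fun h => hw (Finset.mem_of_mem_erase h)
    have hv' : v ∉ I.erase v := Finset.notMem_erase v I
    have h1 := ksgn_comm hwv hw' hv'
    rw [Finset.insert_erase hv] at h1
    have h2 : ksgn v (insert w I) = ksgn v (insert w (I.erase v)) := by
      conv_lhs => rw [← Finset.insert_erase hv, Finset.insert_comm]
      exact ksgn_insert_self v _
    have h5 := ksgn_mul_self w (I.erase v)
    have h6 := ksgn_mul_self w I
    rw [h2]
    linear_combination (ksgn w (I.erase v) * ksgn w I) * h1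
      - (ksgn w I * ksgn v (insert w (I.erase v))) * h5 - (ksgn w (I.erase v) * ksgn v (I.erase v)) * h6
  · rw [kw, if_neg hv, add_zero, kd_apply, Finset.sum_eq_single v]
    · rw [kw, if_pos (Finset.mem_insert_self v I), Finset.erase_insert hv, ksgn_insert_self,
        smul_comm (X v : MvPolynomial ι k) (ksgn v I), ← mul_smul, ksgn_mul_self, one_smul]
    · intro w _ hwv
      rw [kw, if_neg (by simp [hv, Ne.symm hwv]), smul_zero, smul_zero]
    · intro h
      exact absurd (Finset.mem_compl.2 hv) h

section Acyclic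

variable {μ : Type}

/-- Division by a variable, coordinatewise. -/
def kdiv (v : ι) (f : μ → MvPolynomial ι k) : μ → MvPolynomial ι k :=
  fun b => (f b).divMonomial (Finsupp.single v 1)

theorem kdiv_zero (v : ι) : kdiv (k := k) v (0 : μ → MvPolynomial ι k) = 0 := by
  funext b; simp [kdiv]

theorem kdiv_X_smul (v : ι) (f : μ → MvPolynomial ι k) : kdiv v ((X v : MvPolynomial ι k) • f) = f := by
  funext b; simp [kdiv, X_mul_divMonomial]

theorem kdiv_X_smul_of_ne {v w : ι} (h : w ≠ v) (f : μ → MvPolynomial ι k) :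
    kdiv v ((X w : MvPolynomial ι k) • f) = (X w : MvPolynomial ι k) • kdiv v f := by
  funext b
  ext e
  simp only [kdiv, Pi.smul_apply, smul_eq_mul, coeff_divMonomial, coeff_X_mul']
  by_cases hw : w ∈ e.support
  · have hw' : w ∈ (Finsupp.single v 1 + e).support := by
      rw [Finsupp.mem_support_iff, Finsupp.add_apply, Finsupp.single_eq_of_ne h, zero_add]
      exact Finsupp.mem_support_iff.1 hw
    rw [if_pos hw', if_pos hw]
    congr 1
    ext i
    simp only [Finsupp.tsub_apply, Finsupp.add_apply]
    by_cases hi : i = w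
    · subst hi
      rw [Finsupp.single_eq_of_ne h]
      simp
    · rw [Finsupp.single_eq_of_ne hi]
      simp
  · have hw' : w ∉ (Finsupp.single v 1 + e).support := by
      rw [Finsupp.mem_support_iff, Finsupp.add_apply, Finsupp.single_eq_of_ne h, zero_add, not_not]
      exact Finsupp.notMem_support_iff.1 hw
    rw [if_neg hw', if_neg hw]

theorem kdiv_sum_zsmul (v : ι) (s : Finset ι) (a : ι → ℤ) (f : ι → μ → MvPolynomial ι k) :
    kdiv v (∑ w ∈ s, a w • f w) = ∑ w ∈ s, a w • kdiv v (f w) := by
  funext b
  ext e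
  simp only [kdiv, Finset.sum_apply, Pi.smul_apply, coeff_divMonomial, coeff_sum, coeff_smul]

theorem kdiv_zsmul (v : ι) (a : ℤ) (f : μ → MvPolynomial ι k) : kdiv v (a • f) = a • kdiv v f := by
  funext b
  ext e
  simp only [kdiv, Pi.smul_apply, coeff_divMonomial, coeff_smul]

/-- The homotopy of a variable. -/
def khom (v : ι) (c : Finset ι → μ → MvPolynomial ι k) : Finset ι → μ → MvPolynomial ι k :=
  kw v fun I => kdiv v (c I)

/-- What the homotopy of a variable leaves. -/
def kres (v : ι) (c : Finset ι → μ → MvPolynomial ι k) (I : Finset ι) : μ → MvPolynomial ι k :=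
  if v ∈ I then 0 else c I - (X v : MvPolynomial ι k) • kdiv v (c I)

theorem khom_spec (v : ι) (c : Finset ι → μ → MvPolynomial ι k) (hc : kd (k := k) c = 0) (I : Finset ι) :
    kd (k := k) (khom v c) I = c I - kres v c I := by
  have h := kd_kw_add (k := k) v (fun J => kdiv v (c J)) I
  have key : kw v (kd (k := k) fun J => kdiv v (c J)) I =
      if v ∈ I then (X v : MvPolynomial ι k) • kdiv v (c I) - c I else 0 := by
    by_cases hv : v ∈ I
    · rw [kw, if_pos hv, if_pos hv, kd_apply, Finset.compl_erase, Finset.sum_insert (by simp [hv]),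
        Finset.insert_erase hv]
      have h0 := congrArg (kdiv v) (congrFun hc (I.erase v))
      rw [kd_apply, Finset.compl_erase, Finset.sum_insert (by simp [hv]), Finset.insert_erase hv, Pi.zero_apply,
        kdiv_zero] at h0
      have h1 : kdiv v (ksgn v (I.erase v) • (X v : MvPolynomial ι k) • c I +
          ∑ w ∈ Iᶜ, ksgn w (I.erase v) • (X w : MvPolynomial ι k) • c (insert w (I.erase v))) =
          ksgn v (I.erase v) • c I +
            ∑ w ∈ Iᶜ, ksgn w (I.erase v) • (X w : MvPolynomial ι k) • kdiv v (c (insert w (I.erase v))) := by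
        have h2 : ∀ (f g : μ → MvPolynomial ι k), kdiv v (f + g) = kdiv v f + kdiv v g := fun f g => by
          funext b; exact add_divMonomial _ _ _
        rw [h2, kdiv_sum_zsmul]
        congr 1
        · rw [kdiv_zsmul, kdiv_X_smul]
        · refine Finset.sum_congr rfl fun w hw => ?_
          rw [kdiv_X_smul_of_ne fun e => Finset.mem_compl.1 hw (by rw [e]; exact hv)]
      rw [h1] at h0
      rw [eq_neg_of_add_eq_zero_right h0]
      have hI : ksgn v I = ksgn v (I.erase v) := by
        conv_lhs => rw [← Finset.insert_erase hv]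
        exact ksgn_insert_self v _
      rw [hI, smul_add, smul_neg, ← mul_smul, ← mul_smul, ksgn_mul_self, one_smul, one_smul, sub_eq_add_neg]
    · rw [kw, if_neg hv, if_neg hv]
  rw [key] at h
  rw [kres]
  by_cases hv : v ∈ I
  · rw [if_pos hv] at h ⊢
    rw [sub_zero]
    refine (eq_sub_of_add_eq h).trans ?_
    abel
  · rw [if_neg hv, add_zero] at h
    rw [if_neg hv, sub_sub_cancel]
    exact h

/-- A chain is supported away from a set of variables. -/
def KFree (D : Finset ι) (c : Finset ι → μ → MvPolynomial ι k) : Prop :=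
  ∀ v ∈ D, (∀ I, v ∈ I → c I = 0) ∧ ∀ I b e, e v ≠ 0 → coeff e (c I b) = 0

theorem kres_free {D : Finset ι} {c : Finset ι → μ → MvPolynomial ι k} (hD : KFree D c) (v : ι) :
    KFree (insert v D) (kres v c) := by
  have key : ∀ I b (e : ι →₀ ℕ), coeff e ((c I - (X v : MvPolynomial ι k) • kdiv v (c I)) b) =
      if e v ≠ 0 then 0 else coeff e (c I b) := by
    intro I b e
    simp only [Pi.sub_apply, Pi.smul_apply, smul_eq_mul, coeff_sub, kdiv, coeff_X_mul', Finsupp.mem_support_iff]
    by_cases he : e v = 0
    · rw [if_neg (not_not.2 he), sub_zero, if_neg (not_not.2 he)]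
    · rw [if_pos he, if_pos he, coeff_divMonomial, add_tsub_cancel_of_le, sub_self]
      exact Finsupp.single_le_iff.2 (Nat.one_le_iff_ne_zero.2 he)
  intro w hw
  constructor
  · intro I hI
    rw [kres]
    by_cases hv : v ∈ I
    · rw [if_pos hv]
    · rw [if_neg hv]
      rcases Finset.mem_insert.1 hw with rfl | hw
      · exact absurd hI hv
      · rw [(hD w hw).1 I hI, kdiv_zero, smul_zero, sub_zero]
  · intro I b e he
    rw [kres]
    by_cases hv : v ∈ I
    · rw [if_pos hv]; simp
    · rw [if_neg hv, key]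
      rcases Finset.mem_insert.1 hw with rfl | hw
      · rw [if_pos he]
      · split_ifs with h
        · rfl
        · exact (hD w hw).2 I b e he

theorem exists_primitive (c : Finset ι → μ → MvPolynomial ι k) (hc : kd (k := k) c = 0)
    (h0 : ∀ b, constantCoeff (c ∅ b) = 0) : ∃ w, kd (k := k) w = c := by
  suffices ∀ D : Finset ι, ∃ w, KFree D (c - kd (k := k) w) by
    obtain ⟨w, hw⟩ := this Finset.univ
    refine ⟨w, (sub_eq_zero.1 (_root_.funext fun I => ?_)).symm⟩
    rcases I.eq_empty_or_nonempty with rfl | ⟨v, hv⟩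
    · funext b
      ext e
      rcases eq_or_ne e 0 with rfl | he
      · have hk : constantCoeff (kd (k := k) w ∅ b) = 0 := by
          simp [kd_apply, Finset.sum_apply]
        rw [Pi.zero_apply, Pi.zero_apply, coeff_zero, Pi.sub_apply, Pi.sub_apply, coeff_sub, ← constantCoeff_eq, h0, hk,
          sub_self]
      · obtain ⟨v, hv⟩ := Finsupp.ne_iff.1 he
        rw [(hw v (Finset.mem_univ v)).2 ∅ b e hv]
        simp
    · rw [(hw v (Finset.mem_univ v)).1 I hv, Pi.zero_apply]
  intro D
  induction D using Finset.induction_on with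
  | empty => exact ⟨0, fun v hv => absurd hv (Finset.notMem_empty v)⟩
  | @insert v D _ ih =>
    obtain ⟨w, hw⟩ := ih
    refine ⟨w + khom v (c - kd (k := k) w), ?_⟩
    have hcy : kd (k := k) (c - kd (k := k) w) = 0 := by rw [map_sub, hc, kd_kd, sub_zero]
    have e : c - kd (k := k) (w + khom v (c - kd (k := k) w)) = kres v (c - kd (k := k) w) := by
      funext I
      rw [map_add, ← sub_sub, Pi.sub_apply, khom_spec v _ hcy, sub_sub_cancel]
    rw [e]
    exact kres_free hw v

end Acyclic

end GrSyzLib

end
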