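import Mathlib
import Groth.Agent.GrSyzLib.KoszulChains

/-!
# Koszul exactness from the degrees of the generators of the iterated linear syzygy modules
-/

set_option autoImplicit false
universe u

open MvPolynomial

noncomputable section

namespace GrSyzLib

variable {ι : Type} [Fintype ι] [LinearOrder ι] {k : Type u} [CommRing k]

/-- Pieces with projections, compatible with multiplication by the variables and by constants. -/
structure PGr (k : Type u) [CommRing k] (ι : Type) (M : Type u) [AddCommGroup M] [Module (MvPolynomial ι k) M] where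
  pc : ℤ → AddSubgroup M
  pr : ℤ → M →+ M
  pr_mem : ∀ d y, pr d y ∈ pc d
  pr_self : ∀ d y, y ∈ pc d → pr d y = y
  pr_ne : ∀ d d' y, y ∈ pc d → d ≠ d' → pr d' y = 0
  pr_X : ∀ d (v : ι) y, pr d ((X v : MvPolynomial ι k) • y) = (X v : MvPolynomial ι k) • pr (d - 1) y
  pr_C : ∀ d (a : k) y, pr d ((C a : MvPolynomial ι k) • y) = (C a : MvPolynomial ι k) • pr d y

variable {M : Type u} [AddCommGroup M] [Module (MvPolynomial ι k) M]

theorem PGr.X_smul_mem (G : PGr k ι M) {d d' : ℤ} (v : ι) {y : M} (hy : y ∈ G.pc d) (hd : d + 1 = d') :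
    (X v : MvPolynomial ι k) • y ∈ G.pc d' := by
  have h := G.pr_X d' v y
  rw [show d' - 1 = d by omega, G.pr_self d y hy] at h
  exact h ▸ G.pr_mem d' _

/-- Chains of a given size and degree. -/
def IsKChain (G : PGr k ι M) (q : ℕ) (d : ℤ) (c : Finset ι → M) : Prop :=
  ∀ I, c I ∈ G.pc d ∧ (I.card ≠ q → c I = 0)

theorem IsKChain.kd {G : PGr k ι M} {q : ℕ} {d : ℤ} {c : Finset ι → M} (hc : IsKChain G (q + 1) d c) :
    IsKChain G q (d + 1) (GrSyzLib.kd (k := k) c) := fun I => by
  refine ⟨sum_mem fun v _ => zsmul_mem (G.X_smul_mem v (hc _).1 rfl) _, fun hI => ?_⟩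
  refine Finset.sum_eq_zero fun v hv => ?_
  rw [(hc (insert v I)).2 (by rw [Finset.card_insert_of_notMem (Finset.mem_compl.1 hv)]; omega), smul_zero, smul_zero]

theorem IsKChain.kd_zero {G : PGr k ι M} {d : ℤ} {c : Finset ι → M} (hc : IsKChain G 0 d c) :
    GrSyzLib.kd (k := k) c = 0 := by
  funext I
  refine Finset.sum_eq_zero fun v hv => ?_
  rw [(hc (insert v I)).2 (by rw [Finset.card_insert_of_notMem (Finset.mem_compl.1 hv)]; omega), smul_zero, smul_zero]

theorem IsKChain.kw {G : PGr k ι M} {q : ℕ} {d : ℤ} {c : Finset ι → M} (hc : IsKChain G q d c) (v : ι) :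
    IsKChain G (q + 1) d (GrSyzLib.kw v c) := fun I => by
  rw [GrSyzLib.kw]
  split_ifs with hv
  · refine ⟨zsmul_mem (hc _).1 _, fun hI => ?_⟩
    rw [(hc (I.erase v)).2 (by
      rw [Finset.card_erase_of_mem hv]
      have := Finset.card_pos.2 ⟨v, hv⟩
      omega), smul_zero]
  · exact ⟨zero_mem _, fun _ => rfl⟩

variable (k ι M) in
/-- The sum of the multiples by the variables. -/
def lcombX : (ι → M) →ₗ[MvPolynomial ι k] M := ∑ v, (X v : MvPolynomial ι k) • LinearMap.proj v

theorem lcombX_apply (y : ι → M) : lcombX ι k M y = ∑ v, (X v : MvPolynomial ι k) • y v := by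
  simp [lcombX]

/-- The linear syzygies, with the induced pieces. -/
def kerPGr (G : PGr k ι M) : PGr k ι (LinearMap.ker (lcombX ι k M)) where
  pc e :=
    { carrier := {y | ∀ v, y.1 v ∈ G.pc (e - 1)}
      zero_mem' := fun _ => zero_mem _
      add_mem' := fun ha hb v => add_mem (ha v) (hb v)
      neg_mem' := fun ha v => neg_mem (ha v) }
  pr e := AddMonoidHom.mk' (fun y => ⟨fun v => G.pr (e - 1) (y.1 v), by
      rw [LinearMap.mem_ker, lcombX_apply]
      have h : lcombX ι k M y.1 = 0 := y.2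
      rw [lcombX_apply] at h
      have h' := congrArg (G.pr e) h
      rw [map_zero, map_sum] at h'
      refine Eq.trans (Finset.sum_congr rfl fun v _ => ?_) h'
      rw [G.pr_X]⟩) fun a b => Subtype.ext (funext fun v => map_add (G.pr (e - 1)) _ _)
  pr_mem e y v := G.pr_mem _ _
  pr_self e y hy := Subtype.ext (funext fun v => G.pr_self _ _ (hy v))
  pr_ne e e' y hy h := Subtype.ext (funext fun v => G.pr_ne _ _ _ (hy v) (by omega))
  pr_X e w y := Subtype.ext (funext fun v => G.pr_X _ _ _)
  pr_C e a y := Subtype.ext (funext fun v => G.pr_C _ _ _)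

variable (k) in
/-- The condition defining the iterated linear syzygies. -/
def IsLinSyz (i : ℕ) (m : (Fin i → ι) → M) : Prop :=
  ∀ (s : Fin i) (c : Fin i → ι), ∑ v : ι, (X v : MvPolynomial ι k) • m (Function.update c s v) = 0

/-- Generation of the iterated linear syzygies in low degree. -/
def GenLow (G : PGr k ι M) (i : ℕ) (B : ℤ) : Prop :=
  ∀ m : (Fin i → ι) → M, IsLinSyz k i m → m ∈ Submodule.span (MvPolynomial ι k)
    {m' : (Fin i → ι) → M | IsLinSyz k i m' ∧ ∃ e : ℤ, e ≤ B ∧ ∀ c, m' c ∈ G.pc (e - (i : ℤ))}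

theorem GenLow.ker {G : PGr k ι M} {i : ℕ} {B : ℤ} (h : GenLow G (i + 1) B) :
    GenLow (kerPGr G) i B := by
  let L : ((Fin i → ι) → LinearMap.ker (lcombX ι k M)) →ₗ[MvPolynomial ι k] ((Fin (i + 1) → ι) → M) :=
    { toFun := fun m c => (m (Fin.tail c)).1 (c 0)
      map_add' := fun a b => rfl
      map_smul' := fun a b => rfl }
  have hinj : Function.Injective L := fun m m' e => funext fun c => Subtype.ext (funext fun v => by
    have := congrFun e (Fin.cons v c)
    simpa [L] using this)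
  have hsum : ∀ (m : (Fin i → ι) → LinearMap.ker (lcombX ι k M)) (s : Fin i) (c : Fin i → ι) (w : ι),
      (∑ v : ι, (X v : MvPolynomial ι k) • m (Function.update c s v)).1 w =
        ∑ v : ι, (X v : MvPolynomial ι k) • L m (Function.update (Fin.cons w c) s.succ v) := by
    intro m s c w
    rw [Submodule.coe_sum, Finset.sum_apply]
    refine Finset.sum_congr rfl fun v _ => ?_
    show (X v : MvPolynomial ι k) • (m (Function.update c s v)).1 w = _
    show _ = (X v : MvPolynomial ι k) • (m (Fin.tail (Function.update (Fin.cons w c : Fin (i + 1) → ι) s.succ v))).1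
      ((Function.update (Fin.cons w c : Fin (i + 1) → ι) s.succ v) 0)
    rw [← Fin.cons_update, Fin.tail_cons, Fin.cons_zero]
  have himg : ∀ m, IsLinSyz k i m → IsLinSyz k (i + 1) (L m) := by
    intro m hm s c
    induction s using Fin.cases with
    | zero =>
      have h0 : lcombX ι k M (m (Fin.tail c)).1 = 0 := (m (Fin.tail c)).2
      rw [lcombX_apply] at h0
      refine Eq.trans (Finset.sum_congr rfl fun v _ => ?_) h0
      show (X v : MvPolynomial ι k) • (m (Fin.tail (Function.update c 0 v))).1 (Function.update c 0 v 0) = _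
      rw [Fin.tail_update_zero, Function.update_self]
    | succ s =>
      have := congrArg (fun y : LinearMap.ker (lcombX ι k M) => y.1 (c 0)) (hm s (Fin.tail c))
      simp only [hsum, Fin.cons_self_tail] at this
      exact this
  intro m hm
  have hle : Submodule.span (MvPolynomial ι k)
      {m' : (Fin (i + 1) → ι) → M | IsLinSyz k (i + 1) m' ∧ ∃ e : ℤ, e ≤ B ∧ ∀ c, m' c ∈ G.pc (e - ((i + 1 : ℕ) : ℤ))} ≤
      Submodule.map L (Submodule.span (MvPolynomial ι k)
        {m' : (Fin i → ι) → LinearMap.ker (lcombX ι k M) | IsLinSyz k i m' ∧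
          ∃ e : ℤ, e ≤ B ∧ ∀ c, m' c ∈ (kerPGr G).pc (e - (i : ℤ))}) := by
    rw [Submodule.map_span]
    refine Submodule.span_mono ?_
    rintro m' ⟨hm', e, he, hdeg⟩
    let n : (Fin i → ι) → LinearMap.ker (lcombX ι k M) := fun c => ⟨fun v => m' (Fin.cons v c), by
      rcases isEmpty_or_nonempty ι with hι | ⟨⟨v₀⟩⟩
      · rw [LinearMap.mem_ker, lcombX_apply, Finset.univ_eq_empty, Finset.sum_empty]
      rw [LinearMap.mem_ker, lcombX_apply]
      refine Eq.trans (Finset.sum_congr rfl fun v _ => ?_) (hm' 0 (Fin.cons v₀ c))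
      rw [Fin.update_cons_zero]⟩
    have hn : L n = m' := funext fun c => by
      show m' (Fin.cons (c 0) (Fin.tail c)) = m' c
      rw [Fin.cons_self_tail]
    refine ⟨n, ⟨fun s c => Subtype.ext (funext fun w => ?_), e, he, fun c v => ?_⟩, hn⟩
    · rw [hsum, hn]
      exact hm' s.succ (Fin.cons w c)
    · show m' (Fin.cons v c) ∈ G.pc (e - (i : ℤ) - 1)
      convert hdeg (Fin.cons v c) using 2
      push_cast; ring
  obtain ⟨m'', hm'', e⟩ := hle (h (L m) (himg m hm))
  exact hinj e ▸ hm''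

theorem exists_decomp_X {G : PGr k ι M} {B d : ℤ} (h : GenLow G 0 B) (hd : B < d) {y : M} (hy : y ∈ G.pc d) :
    ∃ x : ι → M, (∀ v, x v ∈ G.pc (d - 1)) ∧ lcombX ι k M x = y := by
  have hspan : y ∈ Submodule.span (MvPolynomial ι k) {g : M | ∃ e, e ≤ B ∧ g ∈ G.pc e} := by
    have h1 := h (fun _ => y) (fun s => s.elim0)
    let ev : ((Fin 0 → ι) → M) →ₗ[MvPolynomial ι k] M := LinearMap.proj default
    have h2 := Submodule.mem_map_of_mem (f := ev) h1
    rw [Submodule.map_span] at h2
    refine Submodule.span_mono ?_ h2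
    rintro _ ⟨m', ⟨-, e, he, hm'⟩, rfl⟩
    exact ⟨e, he, by simpa [ev] using hm' default⟩
  suffices ∀ z ∈ Submodule.span (MvPolynomial ι k) {g : M | ∃ e, e ≤ B ∧ g ∈ G.pc e}, ∀ q : MvPolynomial ι k,
      ∃ x : ι → M, (∀ v, x v ∈ G.pc (d - 1)) ∧ lcombX ι k M x = G.pr d (q • z) by
    obtain ⟨x, hx, e⟩ := this y hspan 1
    exact ⟨x, hx, by rw [e, one_smul, G.pr_self d y hy]⟩
  intro z hz
  induction hz using Submodule.span_induction with
  | mem g hg =>
    obtain ⟨e, he, hg⟩ := hg
    intro q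
    induction q using MvPolynomial.induction_on with
    | C a =>
      exact ⟨0, fun v => zero_mem _, by rw [G.pr_C, G.pr_ne e d g hg (by omega), smul_zero, map_zero]⟩
    | add p q hp hq =>
      obtain ⟨x, hx, ex⟩ := hp
      obtain ⟨x', hx', ex'⟩ := hq
      exact ⟨x + x', fun v => add_mem (hx v) (hx' v), by rw [map_add, ex, ex', ← map_add, ← add_smul]⟩
    | mul_X p w _ =>
      refine ⟨Pi.single w (G.pr (d - 1) (p • g)), fun v => ?_, ?_⟩
      · rcases eq_or_ne v w with rfl | hv
        · rw [Pi.single_eq_same]; exact G.pr_mem _ _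
        · rw [Pi.single_eq_of_ne hv]; exact zero_mem _
      · rw [lcombX_apply, Finset.sum_eq_single w, Pi.single_eq_same, mul_comm, mul_smul, G.pr_X]
        · intro v _ hv; rw [Pi.single_eq_of_ne hv, smul_zero]
        · intro hw; exact absurd (Finset.mem_univ w) hw
  | zero => intro q; exact ⟨0, fun v => zero_mem _, by rw [smul_zero, map_zero, map_zero]⟩
  | add a b _ _ ha hb =>
    intro q
    obtain ⟨x, hx, ex⟩ := ha q
    obtain ⟨x', hx', ex'⟩ := hb q
    exact ⟨x + x', fun v => add_mem (hx v) (hx' v), by rw [map_add, ex, ex', ← map_add, ← smul_add]⟩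
  | smul a b _ hb => intro q; rw [← mul_smul]; exact hb _

/-- **Every Koszul cycle is a boundary** when the iterated linear syzygies are generated in low degree. -/
theorem exists_boundary_of_genLow : ∀ (p : ℕ) {M : Type u} [AddCommGroup M] [Module (MvPolynomial ι k) M]
    (G : PGr k ι M) (j : ℤ), (∀ i : ℕ, i ≤ p → GenLow G i (j - (p : ℤ) + (i : ℤ) - 1)) →
    ∀ z, IsKChain G p (j - p) z → kd (k := k) z = 0 → ∃ w, IsKChain G (p + 1) (j - p - 1) w ∧ kd (k := k) w = z := by
  intro p
  induction p with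
  | zero =>
    intro M _ _ G j hgen z hz _
    classical
    have hex : ∀ I, ∃ x : ι → M, (∀ v, x v ∈ G.pc (j - ((0 : ℕ) : ℤ) - 1) ∧ (I.card ≠ 0 → x v = 0)) ∧
        lcombX ι k M x = z I := fun I => by
      by_cases hI : I.card = 0
      · obtain ⟨x, hx, e⟩ := exists_decomp_X (hgen 0 le_rfl) (by push_cast; omega) (hz I).1
        exact ⟨x, fun v => ⟨hx v, fun h => absurd hI h⟩, e⟩
      · exact ⟨0, fun v => ⟨zero_mem _, fun _ => rfl⟩, by rw [map_zero, (hz I).2 hI]⟩
    choose ξ hξ hξz using hex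
    have hc : ∀ v, IsKChain G 0 (j - ((0 : ℕ) : ℤ) - 1) (fun I => ξ I v) := fun v I => hξ I v
    refine ⟨∑ v, kw v (fun I => ξ I v), fun I => ⟨?_, fun hI => ?_⟩, funext fun I => ?_⟩
    · rw [Finset.sum_apply]; exact sum_mem fun v _ => ((hc v).kw v I).1
    · rw [Finset.sum_apply]; exact Finset.sum_eq_zero fun v _ => ((hc v).kw v I).2 hI
    · rw [map_sum, Finset.sum_apply, ← hξz I, lcombX_apply]
      refine Finset.sum_congr rfl fun v _ => ?_
      have := kd_kw_add (k := k) v (fun J => ξ J v) I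
      rw [(hc v).kd_zero] at this
      rw [← this]
      simp [kw]
  | succ p ih =>
    intro M _ _ G j hgen z hz hzc
    classical
    have hex : ∀ I, ∃ x : ι → M, (∀ v, x v ∈ G.pc (j - ((p + 1 : ℕ) : ℤ) - 1) ∧ (I.card ≠ p + 1 → x v = 0)) ∧
        lcombX ι k M x = z I := fun I => by
      by_cases hI : I.card = p + 1
      · obtain ⟨x, hx, e⟩ := exists_decomp_X (hgen 0 (Nat.zero_le _)) (by push_cast; omega) (hz I).1
        exact ⟨x, fun v => ⟨hx v, fun h => absurd hI h⟩, e⟩
      · exact ⟨0, fun v => ⟨zero_mem _, fun _ => rfl⟩, by rw [map_zero, (hz I).2 hI]⟩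
    choose ξ hξ hξz using hex
    have hc : ∀ v, IsKChain G (p + 1) (j - ((p + 1 : ℕ) : ℤ) - 1) (fun I => ξ I v) := fun v I => hξ I v
    have hker : ∀ I, kd (k := k) ξ I ∈ LinearMap.ker (lcombX ι k M) := fun I => by
      rw [LinearMap.mem_ker, ← kd_map, funext hξz, hzc, Pi.zero_apply]
    let ζ : Finset ι → LinearMap.ker (lcombX ι k M) := fun I => ⟨kd (k := k) ξ I, hker I⟩
    have hcomp : ∀ I v, kd (k := k) ξ I v = kd (k := k) (fun J => ξ J v) I := fun I v =>
      (kd_map (LinearMap.proj v : (ι → M) →ₗ[MvPolynomial ι k] M) ξ I).symm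
    have hζ : IsKChain (kerPGr G) p (j - p) ζ := fun I => by
      refine ⟨fun v => ?_, fun hI => Subtype.ext (funext fun v => ?_)⟩
      · show kd (k := k) ξ I v ∈ G.pc (j - (p : ℤ) - 1)
        rw [hcomp]
        have := ((hc v).kd I).1
        rwa [show j - ((p + 1 : ℕ) : ℤ) - 1 + 1 = j - (p : ℤ) - 1 by push_cast; ring] at this
      · show kd (k := k) ξ I v = 0
        rw [hcomp]
        exact ((hc v).kd I).2 hI
    obtain ⟨η, hη, hηζ⟩ := ih (kerPGr G) j (fun i hi => GenLow.ker (by
      have := hgen (i + 1) (by omega)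
      convert this using 1
      push_cast; ring)) ζ hζ (funext fun I => Subtype.ext (by
        rw [← Submodule.subtype_apply, ← kd_map]
        exact congrFun (kd_kd ξ) I))
    let θ : ι → Finset ι → M := fun v I => ξ I v - (η I).1 v
    have hθ : ∀ v, IsKChain G (p + 1) (j - ((p + 1 : ℕ) : ℤ) - 1) (θ v) := fun v I => by
      refine ⟨sub_mem (hc v I).1 ?_, fun hI => ?_⟩
      · have := (hη I).1 v
        rwa [show j - (p : ℤ) - 1 - 1 = j - ((p + 1 : ℕ) : ℤ) - 1 by push_cast; ring] at this
      · show ξ I v - (η I).1 v = 0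
        rw [show ξ I v = 0 from (hc v I).2 hI, (hη I).2 hI]
        simp
    have hθ0 : ∀ v, kd (k := k) (θ v) = 0 := fun v => by
      funext I
      have h1 : θ v = fun J => (LinearMap.proj v : (ι → M) →ₗ[MvPolynomial ι k] M) (ξ J - (η J).1) := rfl
      rw [h1, kd_map, show (fun J => ξ J - (η J).1) = ξ - fun J => (η J).1 from rfl, map_sub, Pi.sub_apply]
      have h2 : kd (k := k) (fun J => (η J).1) I = kd (k := k) ξ I := by
        rw [show (fun J => (η J).1) = fun J => (LinearMap.ker (lcombX ι k M)).subtype (η J) from rfl, kd_map, hηζ]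
        rfl
      rw [h2, sub_self, map_zero, Pi.zero_apply]
    refine ⟨∑ v, kw v (θ v), fun I => ⟨?_, fun hI => ?_⟩, funext fun I => ?_⟩
    · rw [Finset.sum_apply]; exact sum_mem fun v _ => ((hθ v).kw v I).1
    · rw [Finset.sum_apply]; exact Finset.sum_eq_zero fun v _ => ((hθ v).kw v I).2 hI
    · rw [map_sum, Finset.sum_apply]
      have h3 : z I = ∑ v, (X v : MvPolynomial ι k) • θ v I := by
        have h4 : lcombX ι k M (η I).1 = 0 := (η I).2
        rw [← hξz I, ← sub_zero (lcombX ι k M (ξ I)), ← h4, ← map_sub, lcombX_apply]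
        rfl
      rw [h3]
      refine Finset.sum_congr rfl fun v _ => ?_
      have := kd_kw_add (k := k) v (θ v) I
      rw [hθ0 v] at this
      rw [← this]
      simp [kw]

end GrSyzLib

end
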