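import Groth.Agent.GrSyzLib.Exists
import Groth.Agent.CommAlgDim.GlobalDim
import Mathlib.RingTheory.Nakayama

/-! Minimal resolutions: irredundancy, projective dimension, regularity. -/

set_option autoImplicit false
universe u

open MvPolynomial CommAlgDim

noncomputable section

namespace GrSyzLib

variable {k : Type u} [Field k] {r : ℕ}

/-- A generator in the span of the others gives a relation with unit coefficient. -/
theorem exists_relation_of_mem_span {N : Type*} [AddCommGroup N] [Module (MvPolynomial (Fin (r + 1)) k) N] {n : ℕ}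
    (z : Fin n → N) {b : Fin n} (h : z b ∈ Submodule.span (MvPolynomial (Fin (r + 1)) k) (z '' {b' | b' ≠ b})) :
    ∃ c : Fin n → MvPolynomial (Fin (r + 1)) k, Fintype.linearCombination (MvPolynomial (Fin (r + 1)) k) z c = 0 ∧ c b = 1 := by
  classical
  have hle : Submodule.span (MvPolynomial (Fin (r + 1)) k) (z '' {b' | b' ≠ b}) ≤
      (LinearMap.ker (LinearMap.proj b)).map (Fintype.linearCombination (MvPolynomial (Fin (r + 1)) k) z) := by
    refine Submodule.span_le.2 ?_
    rintro _ ⟨b', hb', rfl⟩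
    refine ⟨Pi.single b' 1, ?_, by rw [Fintype.linearCombination_apply_single, one_smul]⟩
    rw [SetLike.mem_coe, LinearMap.mem_ker, LinearMap.proj_apply, Pi.single_eq_of_ne (Ne.symm hb')]
  obtain ⟨c, hc, hcz⟩ := hle h
  refine ⟨Pi.single b 1 - c, by rw [map_sub, hcz, Fintype.linearCombination_apply_single, one_smul, sub_self], ?_⟩
  rw [Pi.sub_apply, Pi.single_eq_same, show c b = 0 from hc, sub_zero]

/-- A small kernel of a surjection onto a projective module is zero. -/
theorem ker_eq_bot_of_projective {n : ℕ} {Q : Type*} [AddCommGroup Q] [Module (MvPolynomial (Fin (r + 1)) k) Q]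
    [Module.Projective (MvPolynomial (Fin (r + 1)) k) Q]
    (f : (Fin n → MvPolynomial (Fin (r + 1)) k) →ₗ[MvPolynomial (Fin (r + 1)) k] Q) (hf : Function.Surjective f)
    (hs : ∀ v ∈ LinearMap.ker f, ∀ b, constantCoeff (v b) = 0) : LinearMap.ker f = ⊥ := by
  obtain ⟨s, hs'⟩ := Module.projective_lifting_property f LinearMap.id hf
  let K := LinearMap.ker f
  have hK : K ≤ RingHom.ker (constantCoeff (R := k) (σ := Fin (r + 1))) • K := fun v hv => by
    have h1 : v = ∑ b, v b • ((Pi.single b 1 : Fin n → MvPolynomial (Fin (r + 1)) k) - s (f (Pi.single b 1))) := by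
      conv_lhs => rw [← sub_zero v, ← map_zero s, ← LinearMap.mem_ker.1 hv]
      exact apply_eq_sum (LinearMap.id - s ∘ₗ f) v
    rw [h1]
    refine sum_mem fun b _ => Submodule.smul_mem_smul (hs v hv b) ?_
    rw [LinearMap.mem_ker, map_sub, ← LinearMap.comp_apply f s, hs', LinearMap.id_apply, sub_self]
  obtain ⟨a, ha, haK⟩ := Submodule.exists_sub_one_mem_and_smul_eq_zero_of_fg_of_le_smul _ K (IsNoetherian.noetherian K) hK
  refine (Submodule.eq_bot_iff _).2 fun v hv => ?_
  have ha0 : a ≠ 0 := fun h => by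
    rw [h, zero_sub, RingHom.mem_ker, map_neg, map_one] at ha
    simp at ha
  funext b
  have := congrFun (haK v hv) b
  rw [Pi.smul_apply, smul_eq_mul, Pi.zero_apply] at this
  exact (mul_eq_zero.1 this).resolve_left ha0

variable {M : Type u} [AddCommGroup M] [Module k M] [Module (MvPolynomial (Fin (r + 1)) k) M]
  [IsScalarTower k (MvPolynomial (Fin (r + 1)) k) M]
  {ℳ : ℤ → Submodule k M} [DirectSum.Decomposition ℳ] [SetLike.GradedSMul (GrSyz.stdGr k (Fin (r + 1))) ℳ]
  (F : GrSyz.FreeRes (GrSyz.stdGr k (Fin (r + 1))) ℳ)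

omit [IsScalarTower k (MvPolynomial (Fin (r + 1)) k) M] in
theorem small_range (hF : F.IsMinimal (GrSyz.irrel (GrSyz.stdGr k (Fin (r + 1)))).toIdeal) (i : ℕ)
    {v : Fin (F.rk i) → MvPolynomial (Fin (r + 1)) k} (hv : v ∈ LinearMap.range (F.dLin i)) (a : Fin (F.rk i)) :
    constantCoeff (v a) = 0 := by
  obtain ⟨w, rfl⟩ := hv
  simp only [GrSyz.FreeRes.dLin, Matrix.mulVecLin_apply, Matrix.mulVec, dotProduct, map_sum, map_mul]
  exact Finset.sum_eq_zero fun b _ => by rw [(mem_irrel_iff k r _).1 (hF i a b), zero_mul]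

omit [IsScalarTower k (MvPolynomial (Fin (r + 1)) k) M] in
theorem rk_succ_eq_zero_of_range (hF : F.IsMinimal (GrSyz.irrel (GrSyz.stdGr k (Fin (r + 1)))).toIdeal) (i : ℕ)
    (h : LinearMap.range (F.dLin i) = ⊥) : F.rk (i + 1) = 0 := by
  by_contra hne
  let b : Fin (F.rk (i + 1)) := ⟨0, Nat.pos_of_ne_zero hne⟩
  have h1 : Pi.single b (1 : MvPolynomial (Fin (r + 1)) k) ∈ LinearMap.range (F.dLin (i + 1)) := by
    rw [← F.exact_succ, LinearMap.mem_ker]
    have : F.dLin i (Pi.single b 1) ∈ (⊥ : Submodule (MvPolynomial (Fin (r + 1)) k) _) := h ▸ LinearMap.mem_range_self _ _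
    exact this
  have := small_range F hF (i + 1) h1 b
  rw [Pi.single_eq_same, map_one] at this
  exact one_ne_zero this

omit [IsScalarTower k (MvPolynomial (Fin (r + 1)) k) M] in
theorem rk_eq_zero_of_le (hF : F.IsMinimal (GrSyz.irrel (GrSyz.stdGr k (Fin (r + 1)))).toIdeal) {i : ℕ}
    (h : F.rk i = 0) : ∀ j, i ≤ j → F.rk j = 0 := by
  intro j hj
  induction j, hj using Nat.le_induction with
  | base => exact h
  | succ j _ ih =>
    refine rk_succ_eq_zero_of_range F hF j ?_
    haveI : IsEmpty (Fin (F.rk j)) := by rw [ih]; exact Fin.isEmpty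
    exact Subsingleton.elim _ _

omit [IsScalarTower k (MvPolynomial (Fin (r + 1)) k) M] in
theorem hasLength_iff_pdlt (hF : F.IsMinimal (GrSyz.irrel (GrSyz.stdGr k (Fin (r + 1)))).toIdeal) (n : ℕ) :
    F.HasLengthLE n ↔ PDLT (MvPolynomial (Fin (r + 1)) k) M (n + 1) := by
  have key : ∀ {Q : Type u} [AddCommGroup Q] [Module (MvPolynomial (Fin (r + 1)) k) Q] (t : ℕ)
      (f : (Fin (F.rk t) → MvPolynomial (Fin (r + 1)) k) →ₗ[MvPolynomial (Fin (r + 1)) k] Q), Function.Surjective f →
      LinearMap.ker f = LinearMap.range (F.dLin t) → (F.HasLengthLE t ↔ PDLT (MvPolynomial (Fin (r + 1)) k) Q 1) := by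
    intro Q _ _ t f hf hk
    rw [pdlt_one_iff]
    refine ⟨fun h => ?_, fun h => ?_⟩
    · haveI : IsEmpty (Fin (F.rk (t + 1))) := by rw [h (t + 1) (by omega)]; exact Fin.isEmpty
      have h0 : LinearMap.ker f = ⊥ := by
        rw [hk, LinearMap.range_eq_bot]
        exact Subsingleton.elim _ _
      exact Module.Projective.of_equiv (LinearEquiv.ofBijective f ⟨LinearMap.ker_eq_bot.1 h0, hf⟩)
    · have h0 := ker_eq_bot_of_projective f hf fun v hv b => small_range F hF t (hk ▸ hv) b
      exact fun i hi => rk_eq_zero_of_le F hF (rk_succ_eq_zero_of_range F hF t (hk ▸ h0)) i hi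
  have shift : ∀ j i, PDLT (MvPolynomial (Fin (r + 1)) k) (LinearMap.range (F.dLin i)) (j + 1) ↔
      PDLT (MvPolynomial (Fin (r + 1)) k) (LinearMap.range (F.dLin (i + j))) 1 := by
    intro j
    induction j with
    | zero => exact fun i => Iff.rfl
    | succ j ih =>
      intro i
      rw [pdlt_ker_iff (F.dLin i).rangeRestrict (LinearMap.surjective_rangeRestrict _) j,
        PDLT.congr (LinearEquiv.ofEq _ _ ((LinearMap.ker_rangeRestrict _).trans (F.exact_succ i))), ih,
        show i + 1 + j = i + (j + 1) by omega]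
  cases n with
  | zero => exact key 0 F.augLin F.aug_surjective F.exact_zero
  | succ n =>
    rw [pdlt_ker_iff F.augLin F.aug_surjective n, PDLT.congr (LinearEquiv.ofEq _ _ F.exact_zero), shift n 0, Nat.zero_add]
    exact key (n + 1) (F.dLin n).rangeRestrict (LinearMap.surjective_rangeRestrict _)
      ((LinearMap.ker_rangeRestrict _).trans (F.exact_succ n))

theorem isGenLE_iff (F' : GrSyz.FreeRes (GrSyz.stdGr k (Fin (r + 1))) ℳ)
    (hF : F.IsMinimal (GrSyz.irrel (GrSyz.stdGr k (Fin (r + 1)))).toIdeal)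
    (hF' : F'.IsMinimal (GrSyz.irrel (GrSyz.stdGr k (Fin (r + 1)))).toIdeal) (d : ℤ) :
    F'.IsGenLE d ↔ F.IsGenLE d := by
  have aux : ∀ (A B : GrSyz.FreeRes (GrSyz.stdGr k (Fin (r + 1))) ℳ), (∀ i j, A.betti i j = B.betti i j) →
      A.IsGenLE d → B.IsGenLE d := fun A B h hA i b => by
    classical
    have h1 : 0 < B.betti i (B.deg i b) := Finset.card_pos.2 ⟨b, by simp⟩
    rw [← h] at h1
    obtain ⟨a, ha⟩ := Finset.card_pos.1 h1
    rw [← (Finset.mem_filter.1 ha).2]
    exact hA i a
  exact ⟨aux F' F fun i j => betti_eq F' F hF' hF i j, aux F F' fun i j => betti_eq F F' hF hF' i j⟩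

end GrSyzLib
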