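import Mathlib
import Groth.Agent.GrSyzLib.LinSyz
import Groth.Agent.GrSyzLib.MinimalPD

/-!
# Graded Betti numbers vanish where Koszul cycles are boundaries
-/

set_option autoImplicit false
universe u

open MvPolynomial DirectSum

noncomputable section

namespace GrSyzLib

/-- Projecting a primitive of a chain gives a primitive chain. -/
theorem exists_primitive_chain {ι : Type} [Fintype ι] [LinearOrder ι] {k : Type u} [CommRing k] {M : Type u}
    [AddCommGroup M] [Module (MvPolynomial ι k) M] (G : PGr k ι M) {q : ℕ} {d : ℤ} {c ω : Finset ι → M}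
    (hc : IsKChain G q (d + 1) c) (h : kd (k := k) ω = c) :
    ∃ ω', IsKChain G (q + 1) d ω' ∧ kd (k := k) ω' = c := by
  refine ⟨fun I => if I.card = q + 1 then G.pr d (ω I) else 0, fun I => ⟨?_, fun hI => if_neg hI⟩, funext fun I => ?_⟩
  · dsimp only
    split_ifs
    · exact G.pr_mem _ _
    · exact zero_mem _
  · by_cases hI : I.card = q
    · rw [← G.pr_self (d + 1) (c I) (hc I).1, ← h]
      simp only [kd_apply, map_sum, map_zsmul]
      refine Finset.sum_congr rfl fun v hv => ?_
      rw [if_pos (by rw [Finset.card_insert_of_notMem (Finset.mem_compl.1 hv), hI]), G.pr_X, add_sub_cancel_right]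
    · rw [(hc I).2 hI, kd_apply]
      refine Finset.sum_eq_zero fun v hv => ?_
      rw [if_neg (by rw [Finset.card_insert_of_notMem (Finset.mem_compl.1 hv)]; omega), smul_zero, smul_zero]

variable {k : Type u} [Field k] {r : ℕ} {M : Type u} [AddCommGroup M] [Module k M]
  [Module (MvPolynomial (Fin (r + 1)) k) M] [IsScalarTower k (MvPolynomial (Fin (r + 1)) k) M]
  (ℳ : ℤ → Submodule k M) [DirectSum.Decomposition ℳ] [SetLike.GradedSMul (GrSyz.stdGr k (Fin (r + 1))) ℳ]

local notation "SS" => MvPolynomial (Fin (r + 1)) k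

theorem component_smul_hom {a : ℤ} {p : SS} (hp : p ∈ GrSyz.stdGr k (Fin (r + 1)) a) (d : ℤ) (y : M) :
    (decompose ℳ (p • y) d : M) = p • (decompose ℳ y (d - a) : M) := by
  classical
  induction y using DirectSum.Decomposition.inductionOn (ℳ := ℳ) with
  | zero => simp
  | @homogeneous j m =>
    have h1 : p • (m : M) ∈ ℳ (a + j) := SetLike.GradedSMul.smul_mem (A := GrSyz.stdGr k (Fin (r + 1))) (B := ℳ) hp m.2
    by_cases hj : j = d - a
    · subst hj
      rw [decompose_of_mem_same ℳ m.2]
      rw [show a + (d - a) = d by ring] at h1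
      exact decompose_of_mem_same ℳ h1
    · rw [decompose_of_mem_ne ℳ m.2 hj, smul_zero, decompose_of_mem_ne ℳ h1 (by omega)]
  | add x y hx hy => simp only [smul_add, decompose_add, DirectSum.add_apply, Submodule.coe_add, hx, hy]

theorem X_mem_std (v : Fin (r + 1)) : (X v : SS) ∈ GrSyz.stdGr k (Fin (r + 1)) 1 := by
  rw [GrSyz.mem_stdGr_iff]; exact isWeightedHomogeneous_X k (fun _ => (1 : ℤ)) v

theorem C_mem_std (a : k) : (C a : SS) ∈ GrSyz.stdGr k (Fin (r + 1)) 0 := by
  rw [GrSyz.mem_stdGr_iff]; exact isWeightedHomogeneous_C _ a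

/-- A graded module as pieces with projections. -/
def modPGr : PGr k (Fin (r + 1)) M where
  pc d := (ℳ d).toAddSubgroup
  pr d := AddMonoidHom.mk' (fun y => (decompose ℳ y d : M)) fun a b => by
    simp only [decompose_add, DirectSum.add_apply, Submodule.coe_add]
  pr_mem d y := (decompose ℳ y d).2
  pr_self d y hy := decompose_of_mem_same ℳ hy
  pr_ne d d' y hy h := decompose_of_mem_ne ℳ hy h
  pr_X d v y := component_smul_hom ℳ (X_mem_std v) d y
  pr_C d a y := by
    show (decompose ℳ ((C a : SS) • y) d : M) = _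
    rw [component_smul_hom ℳ (C_mem_std a) d y, sub_zero]
    rfl

/-- A free module with shifts as pieces with projections. -/
def freePGr {n : ℕ} (a : Fin n → ℤ) : PGr k (Fin (r + 1)) (Fin n → SS) where
  pc d := (piece k r a d).toAddSubgroup
  pr d := AddMonoidHom.mk' (proj k r a d) fun v w => funext fun b => by
    simp only [proj, Pi.add_apply, decompose_add, DirectSum.add_apply, Submodule.coe_add]
  pr_mem d y := proj_mem k r a d y
  pr_self d y hy := proj_eq k r hy
  pr_ne d d' y hy h := funext fun b => by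
    show proj k r a d' y b = 0
    exact decompose_of_mem_ne (GrSyz.stdGr k (Fin (r + 1))) ((mem_piece k r).1 hy b) (by omega)
  pr_X d v y := funext fun b => by
    show proj k r a d ((X v : SS) • y) b = (X v : SS) * proj k r a (d - 1) y b
    simp only [proj, Pi.smul_apply, smul_eq_mul]
    rw [decompose_mul_of_mem (X_mem_std v), show d - a b - 1 = d - 1 - a b by ring]
  pr_C d c y := funext fun b => by
    show proj k r a d ((C c : SS) • y) b = (C c : SS) * proj k r a d y b
    simp only [proj, Pi.smul_apply, smul_eq_mul]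
    rw [decompose_mul_of_mem (C_mem_std c), sub_zero]

variable {ℳ} (F : GrSyz.FreeRes (GrSyz.stdGr k (Fin (r + 1))) ℳ)

/-- **A graded Betti number vanishes when the Koszul cycles in that bidegree are boundaries.** -/
theorem betti_eq_zero_of_exact (hF : F.IsMinimal (GrSyz.irrel (GrSyz.stdGr k (Fin (r + 1)))).toIdeal) (p : ℕ) (j : ℤ)
    (hex : ∀ z : Finset (Fin (r + 1)) → M, IsKChain (modPGr (r := r) ℳ) p (j - p) z → kd (k := k) z = 0 → ∃ w, kd (k := k) w = z) :
    F.betti p j = 0 := by
  have hQ0 : ∀ c : Finset (Fin (r + 1)) → Fin (F.rk 0) → SS, IsKChain (freePGr (F.deg 0)) p (j - p) c →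
      kd (k := k) (fun I => F.augLin (c I)) = 0 → ∃ (α : Finset (Fin (r + 1)) → Fin (F.rk 0) → SS) (β : Finset (Fin (r + 1)) → Fin (F.rk 1) → SS),
        c = kd (k := k) α + fun I => F.dLin 0 (β I) := by
    intro c hc hcy
    obtain ⟨w, hw⟩ := hex (fun I => F.augLin (c I))
      (fun I => ⟨augLin_mem F _ (hc I).1, fun h => by simp only [(hc I).2 h, map_zero]⟩) hcy
    choose ω hω using fun I => (F.aug_surjective : Function.Surjective F.augLin) (w I)
    have hdiff : ∀ I, c I - kd (k := k) ω I ∈ LinearMap.range (F.dLin 0) := fun I => by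
      rw [← F.exact_zero, LinearMap.mem_ker, map_sub, ← kd_map, funext hω, hw, sub_self]
    choose β hβ using hdiff
    exact ⟨ω, β, funext fun I => by rw [Pi.add_apply, hβ, add_sub_cancel]⟩
  have hQ : ∀ (q : ℕ) (i : ℕ), i + (q + 1) = p → ∀ c : Finset (Fin (r + 1)) → Fin (F.rk (q + 1)) → SS,
      IsKChain (freePGr (F.deg (q + 1))) i (j - i) c →
      kd (k := k) (fun I => F.dLin q (c I)) = 0 → ∃ (α : Finset (Fin (r + 1)) → Fin (F.rk (q + 1)) → SS) (β : Finset (Fin (r + 1)) → Fin (F.rk (q + 2)) → SS),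
          c = kd (k := k) α + fun I => F.dLin (q + 1) (β I) := by
    have step : ∀ (q i : ℕ), (∀ ω : Finset (Fin (r + 1)) → Fin (F.rk q) → SS,
        IsKChain (freePGr (F.deg q)) (i + 1) (j - i - 1) ω →
        (∀ c : Finset (Fin (r + 1)) → Fin (F.rk (q + 1)) → SS, kd (k := k) ω = (fun I => F.dLin q (c I)) →
          ∃ (α : Finset (Fin (r + 1)) → Fin (F.rk q) → SS) (β : Finset (Fin (r + 1)) → Fin (F.rk (q + 1)) → SS),
            ω = kd (k := k) α + fun I => F.dLin q (β I))) →
        ∀ c : Finset (Fin (r + 1)) → Fin (F.rk (q + 1)) → SS, IsKChain (freePGr (F.deg (q + 1))) i (j - i) c →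
        kd (k := k) (fun I => F.dLin q (c I)) = 0 → ∃ (α : Finset (Fin (r + 1)) → Fin (F.rk (q + 1)) → SS) (β : Finset (Fin (r + 1)) → Fin (F.rk (q + 2)) → SS),
          c = kd (k := k) α + fun I => F.dLin (q + 1) (β I) := by
      intro q i hω c hc hcy
      have hdc : IsKChain (freePGr (F.deg q)) i (j - i - 1 + 1) (fun I => F.dLin q (c I)) := by
        rw [sub_add_cancel]
        exact fun I => ⟨dLin_mem_piece F q _ (hc I).1, fun h => by simp only [(hc I).2 h, map_zero]⟩
      obtain ⟨w, hw⟩ := exists_primitive (fun I => F.dLin q (c I)) hcy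
        fun b => small_range F hF q ⟨c ∅, rfl⟩ b
      obtain ⟨ω, hωc, hωd⟩ := exists_primitive_chain _ hdc hw
      obtain ⟨α, β, e⟩ := hω ω hωc c hωd
      have h1 : (fun I => F.dLin q (c I)) = fun I => F.dLin q (kd (k := k) β I) := by
        funext I
        have := congrFun (congrArg (fun x => kd (k := k) x) e) I
        simp only [hωd, map_add, kd_kd, zero_add, kd_map] at this
        exact this
      have hdiff : ∀ I, c I - kd (k := k) β I ∈ LinearMap.range (F.dLin (q + 1)) := fun I => by
        rw [← F.exact_succ, LinearMap.mem_ker, map_sub, congrFun h1 I, sub_self]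
      choose η hη using hdiff
      exact ⟨β, η, funext fun I => by rw [Pi.add_apply, hη, add_sub_cancel]⟩
    intro q
    induction q with
    | zero =>
      intro i hi
      refine step 0 i fun ω hω c hωd => hQ0 ω ?_ ?_
      · rwa [show (p : ℤ) = ((i + 1 : ℕ) : ℤ) by rw [← hi],
          show j - ((i + 1 : ℕ) : ℤ) = j - i - 1 by push_cast; ring, show p = i + 1 by omega]
      · funext I
        rw [kd_map, hωd]
        exact LinearMap.mem_ker.1 (F.exact_zero.ge ⟨c I, rfl⟩)
    | succ q ih =>
      intro i hi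
      refine step (q + 1) i fun ω hω c hωd => ih (i + 1) (by omega) ω ?_ ?_
      · rwa [show j - ((i + 1 : ℕ) : ℤ) = j - i - 1 by push_cast; ring]
      · funext I
        rw [kd_map, hωd]
        exact LinearMap.mem_ker.1 ((F.exact_succ q).ge ⟨c I, rfl⟩)
  rw [GrSyz.FreeRes.betti, Finset.card_eq_zero, Finset.filter_eq_empty_iff]
  intro b _ hb
  let c : Finset (Fin (r + 1)) → Fin (F.rk p) → SS := fun I => if I = ∅ then Pi.single b 1 else 0
  have hc : IsKChain (freePGr (F.deg p)) 0 (j - ((0 : ℕ) : ℤ)) c := fun I => by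
    by_cases hI : I = ∅
    · refine ⟨?_, fun h => absurd (by simp [hI]) h⟩
      simp only [c, if_pos hI]
      refine (mem_piece k r).2 fun b' => ?_
      rcases eq_or_ne b' b with rfl | hne
      · rw [Pi.single_eq_same, hb, Nat.cast_zero, sub_zero, sub_self]
        exact SetLike.GradedOne.one_mem
      · rw [Pi.single_eq_of_ne hne]; exact zero_mem _
    · exact ⟨by simp only [c, if_neg hI]; exact zero_mem _, fun _ => if_neg hI⟩
  have hcy : ∀ (N : Type u) [AddCommGroup N] [Module SS N] (f : (Fin (F.rk p) → SS) →ₗ[SS] N),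
      kd (k := k) (fun I => f (c I)) = 0 := fun N _ _ f => by
    funext I
    refine Finset.sum_eq_zero fun v _ => ?_
    show ksgn v I • (X v : SS) • f (c (insert v I)) = 0
    simp [c, Finset.insert_ne_empty]
  have hend : ∀ q, q = p → ∀ (c : Finset (Fin (r + 1)) → Fin (F.rk q) → SS) (b : Fin (F.rk q))
      (α : Finset (Fin (r + 1)) → Fin (F.rk q) → SS) (β : Finset (Fin (r + 1)) → Fin (F.rk (q + 1)) → SS),
      c ∅ = Pi.single b 1 → c = kd (k := k) α + (fun I => F.dLin q (β I)) → False := by
    intro q _ c b α β hcb e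
    have h1 := congrArg constantCoeff (congrFun (congrFun e ∅) b)
    rw [hcb, Pi.single_eq_same, map_one, Pi.add_apply, Pi.add_apply, map_add,
      small_range F hF q ⟨β ∅, rfl⟩ b, add_zero] at h1
    simp [kd_apply, Finset.sum_apply] at h1
  have hcb : c ∅ = Pi.single b 1 := if_pos rfl
  revert c
  revert b
  cases p with
  | zero =>
    intro b _ _ c hc hcy hcb
    obtain ⟨α, β, e⟩ := hQ0 c hc (hcy M F.augLin)
    exact hend 0 rfl c b α β hcb e
  | succ q =>
    intro b _ _ c hc hcy hcb
    obtain ⟨α, β, e⟩ := hQ q 0 (by omega) c hc (hcy _ (F.dLin q))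
    exact hend (q + 1) rfl c b α β hcb e

end GrSyzLib

end
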