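import Mathlib
import Groth.Agent.GrSyzLib.MinimalPD

/-!
# A minimal graded resolution stays minimal at the irrelevant maximal ideal
-/

set_option autoImplicit false
universe u

open MvPolynomial CommAlgDim

noncomputable section

namespace GrSyzLib

section General

variable {R : Type u} [CommRing R] (S : Submonoid R) {F M : Type u} [AddCommGroup F] [Module R F]
  [AddCommGroup M] [Module R M]

theorem range_map_subtype (f : F →ₗ[R] M) :
    LinearMap.range (LocalizedModule.map S (LinearMap.ker f).subtype) = LinearMap.ker (LocalizedModule.map S f) :=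
  by
  ext x
  exact (LocalizedModule.map_exact S _ f (LinearMap.exact_subtype_ker_map f) x).symm

/-- The localised kernel. -/
def kerLocEquiv (f : F →ₗ[R] M) :
    LocalizedModule S (LinearMap.ker f) ≃ₗ[Localization S] LinearMap.ker (LocalizedModule.map S f) :=
  (LinearEquiv.ofInjective _ (LocalizedModule.map_injective S _ (LinearMap.ker f).injective_subtype)).trans
    (LinearEquiv.ofEq _ _ (range_map_subtype S f))

theorem pdlt_loc_ker_iff (f : F →ₗ[R] M) (hf : Function.Surjective f) [Module.Projective R F] (n : ℕ) :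
    PDLT (Localization S) (LocalizedModule S M) (n + 2) ↔
      PDLT (Localization S) (LocalizedModule S (LinearMap.ker f)) (n + 1) := by
  haveI : Module.Projective (Localization S) (LocalizedModule S F) :=
    Module.projective_of_isLocalizedModule S (LocalizedModule.mkLinearMap S F)
  rw [pdlt_ker_iff (LocalizedModule.map S f) (LocalizedModule.map_surjective S f hf) n]
  exact PDLT.congr (kerLocEquiv S f).symm

end General

variable {k : Type u} [Field k] {r : ℕ}

local notation "SS" => MvPolynomial (Fin (r + 1)) k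

instance isMaximal_ker_constantCoeff : (RingHom.ker (constantCoeff (R := k) (σ := Fin (r + 1)))).IsMaximal :=
  RingHom.ker_isMaximal_of_surjective _ fun c => ⟨C c, constantCoeff_C _ c⟩

local notation "pp" => RingHom.ker (constantCoeff (R := k) (σ := Fin (r + 1)))

theorem ker_eq_bot_of_loc_projective {n : ℕ} {Q : Type u} [AddCommGroup Q] [Module SS Q]
    (f : (Fin n → SS) →ₗ[SS] Q) (hf : Function.Surjective f)
    (hP : Module.Projective (Localization.AtPrime pp) (LocalizedModule (Ideal.primeCompl pp) Q))
    (hs : ∀ v ∈ LinearMap.ker f, ∀ b, constantCoeff (v b) = 0) : LinearMap.ker f = ⊥ := by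
  let Sm := Ideal.primeCompl pp
  let L := Localization.AtPrime pp
  let F' := LocalizedModule Sm (Fin n → SS)
  haveI : Module.Finite L F' := Module.Finite.of_isLocalizedModule Sm (LocalizedModule.mkLinearMap Sm (Fin n → SS))
  haveI : IsNoetherianRing L := IsLocalization.isNoetherianRing Sm L inferInstance
  let g := LocalizedModule.map Sm f
  let ι := LocalizedModule.map Sm (LinearMap.ker f).subtype
  let J := IsLocalRing.maximalIdeal L
  have hιJ : LinearMap.range ι ≤ J • (⊤ : Submodule L F') := by
    rintro _ ⟨x, rfl⟩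
    induction x using LocalizedModule.induction_on with
    | h v s =>
      show LocalizedModule.map Sm (LinearMap.ker f).subtype (LocalizedModule.mk v s) ∈ _
      rw [LocalizedModule.map_mk]
      have hv : (v : Fin n → SS) = ∑ b, (v : Fin n → SS) b • Pi.single b 1 := pi_eq_sum_univ' _
      rw [Submodule.coe_subtype, hv, show LocalizedModule.mk (∑ b, (v : Fin n → SS) b • (Pi.single b 1 : Fin n → SS)) s =
        (Localization.mk 1 s : L) • LocalizedModule.mkLinearMap Sm (Fin n → SS) (∑ b, (v : Fin n → SS) b • Pi.single b 1) by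
          rw [LocalizedModule.mkLinearMap_apply, LocalizedModule.mk_smul_mk, one_smul, mul_one]]
      refine Submodule.smul_mem _ _ ?_
      rw [map_sum]
      refine sum_mem fun b _ => ?_
      rw [map_smul, ← algebraMap_smul L ((v : Fin n → SS) b)
        (LocalizedModule.mkLinearMap Sm (Fin n → SS) (Pi.single b 1))]
      refine Submodule.smul_mem_smul ?_ Submodule.mem_top
      have h1 : (v : Fin n → SS) b ∈ pp := RingHom.mem_ker.2 (hs _ v.2 b)
      exact (IsLocalization.AtPrime.to_map_mem_maximal_iff L pp _).2 h1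
  obtain ⟨s, hs'⟩ := Module.projective_lifting_property g LinearMap.id (LocalizedModule.map_surjective Sm f hf)
  let q : F' →ₗ[L] F' := LinearMap.id - s ∘ₗ g
  have hq : LinearMap.range q ≤ LinearMap.ker g := by
    rintro _ ⟨x, rfl⟩
    show g (x - s (g x)) = 0
    rw [map_sub, ← LinearMap.comp_apply g s, hs', LinearMap.id_apply, sub_self]
  have hK : LinearMap.ker g ≤ J • LinearMap.ker g := by
    intro x hx
    have h1 : q x = x := by
      show x - s (g x) = x
      rw [LinearMap.mem_ker.1 hx, map_zero, sub_zero]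
    have h2 : q x ∈ Submodule.map q (J • (⊤ : Submodule L F')) :=
      Submodule.mem_map_of_mem (hιJ ((range_map_subtype Sm f).ge hx))
    rw [h1, Submodule.map_smul'', Submodule.map_top] at h2
    exact Submodule.smul_mono le_rfl hq h2
  have hK0 : LinearMap.ker g = ⊥ := Submodule.eq_bot_of_le_smul_of_le_jacobson_bot J _ (IsNoetherian.noetherian _) hK
    (IsLocalRing.maximalIdeal_le_jacobson _)
  refine (Submodule.eq_bot_iff _).2 fun v hv => ?_
  have h1 : LocalizedModule.mk v (1 : Sm) = 0 := by
    refine (Submodule.mem_bot L).1 (hK0 ▸ ?_)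
    show g (LocalizedModule.mk v 1) = 0
    rw [LocalizedModule.map_mk, LinearMap.mem_ker.1 hv, LocalizedModule.zero_mk]
  obtain ⟨c, hc⟩ := (LocalizedModule.mk_eq (s := (1 : Sm)) (s' := (1 : Sm)) (m' := (0 : Fin n → SS))).1
    (h1.trans (LocalizedModule.zero_mk (1 : Sm)).symm)
  simp only [one_smul, smul_zero] at hc
  refine (smul_eq_zero.1 (show (c : SS) • v = 0 from hc)).resolve_left fun h0 => c.2 ?_
  rw [h0]
  exact zero_mem _

variable {M : Type u} [AddCommGroup M] [Module k M] [Module (MvPolynomial (Fin (r + 1)) k) M]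
  {ℳ : ℤ → Submodule k M} [DirectSum.Decomposition ℳ] [SetLike.GradedSMul (GrSyz.stdGr k (Fin (r + 1))) ℳ]
  (F : GrSyz.FreeRes (GrSyz.stdGr k (Fin (r + 1))) ℳ)

theorem hasLengthLE_of_pdlt_loc (hF : F.IsMinimal (GrSyz.irrel (GrSyz.stdGr k (Fin (r + 1)))).toIdeal) (n : ℕ)
    (h : PDLT (Localization.AtPrime pp) (LocalizedModule (Ideal.primeCompl pp) M) (n + 1)) : F.HasLengthLE n := by
  have key : ∀ {Q : Type u} [AddCommGroup Q] [Module SS Q] (t : ℕ)
      (f : (Fin (F.rk t) → SS) →ₗ[SS] Q), Function.Surjective f → LinearMap.ker f = LinearMap.range (F.dLin t) →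
      PDLT (Localization.AtPrime pp) (LocalizedModule (Ideal.primeCompl pp) Q) 1 → F.HasLengthLE t := by
    intro Q _ _ t f hf hk hQ
    have h0 := ker_eq_bot_of_loc_projective f hf (pdlt_one_iff.1 hQ) fun v hv b => small_range F hF t (hk ▸ hv) b
    exact fun i hi => rk_eq_zero_of_le F hF (rk_succ_eq_zero_of_range F hF t (hk ▸ h0)) i hi
  have shift : ∀ j i, PDLT (Localization.AtPrime pp)
      (LocalizedModule (Ideal.primeCompl pp) (LinearMap.range (F.dLin i))) (j + 1) →
      PDLT (Localization.AtPrime pp) (LocalizedModule (Ideal.primeCompl pp) (LinearMap.range (F.dLin (i + j)))) 1 := by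
    intro j
    induction j with
    | zero => exact fun i h => h
    | succ j ih =>
      intro i h
      rw [pdlt_loc_ker_iff _ (F.dLin i).rangeRestrict (LinearMap.surjective_rangeRestrict _) j,
        show LinearMap.ker (F.dLin i).rangeRestrict = LinearMap.range (F.dLin (i + 1)) from
          (LinearMap.ker_rangeRestrict _).trans (F.exact_succ i)] at h
      rw [show i + (j + 1) = i + 1 + j by omega]
      exact ih (i + 1) h
  cases n with
  | zero => exact key 0 F.augLin F.aug_surjective F.exact_zero h
  | succ n =>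
    rw [pdlt_loc_ker_iff _ F.augLin F.aug_surjective n, F.exact_zero] at h
    have h' := shift n 0 h
    rw [Nat.zero_add] at h'
    exact key (n + 1) (F.dLin n).rangeRestrict (LinearMap.surjective_rangeRestrict _)
      ((LinearMap.ker_rangeRestrict _).trans (F.exact_succ n)) h'

theorem nontrivial_loc (hF : F.IsMinimal (GrSyz.irrel (GrSyz.stdGr k (Fin (r + 1)))).toIdeal) {ℓ : ℕ}
    (hℓ : F.rk ℓ ≠ 0) : Nontrivial (LocalizedModule (Ideal.primeCompl pp) M) := by
  by_contra hn
  rw [not_nontrivial_iff_subsingleton] at hn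
  have hker : LinearMap.ker F.augLin = ⊥ := ker_eq_bot_of_loc_projective _ F.aug_surjective inferInstance
    fun v hv b => small_range F hF 0 (F.exact_zero ▸ hv) b
  refine hℓ (rk_eq_zero_of_le F hF (i := 0) ?_ ℓ (Nat.zero_le _))
  by_contra h0
  let b : Fin (F.rk 0) := ⟨0, Nat.pos_of_ne_zero h0⟩
  obtain ⟨c, hc, hcm⟩ := LocalizedModule.subsingleton_iff.1 hn (F.augLin (Pi.single b 1))
  rw [← map_smul, ← LinearMap.mem_ker, hker, Submodule.mem_bot] at hcm
  have := congrFun hcm b
  rw [Pi.smul_apply, Pi.single_eq_same, Pi.zero_apply, smul_eq_mul, mul_one] at this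
  exact hc (this ▸ zero_mem _)

end GrSyzLib

end
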