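import Groth.Agent.GrSyzLib.MinimalPD
import Mathlib.CategoryTheory.Monoidal.Tor
import Mathlib.CategoryTheory.Abelian.Projective.Resolution
import Mathlib.Algebra.Category.ModuleCat.Monoidal.Basic
import Mathlib.Algebra.Category.ModuleCat.Projective
import Mathlib.RingTheory.Length

/-! Tor against the residue field counts the ranks of a minimal resolution. -/

set_option autoImplicit false
universe u

open MvPolynomial CategoryTheory CategoryTheory.Limits TensorProduct MonoidalCategory

noncomputable section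

namespace GrSyzLib

variable {k : Type u} [Field k] {r : ℕ} {M : Type u} [AddCommGroup M] [Module k M] [Module (MvPolynomial (Fin (r + 1)) k) M]
  {ℳ : ℤ → Submodule k M} [DirectSum.Decomposition ℳ] [SetLike.GradedSMul (GrSyz.stdGr k (Fin (r + 1))) ℳ]
  (F : GrSyz.FreeRes (GrSyz.stdGr k (Fin (r + 1))) ℳ)

/-- The complex of a resolution. -/
def toComplex : ChainComplex (ModuleCat.{u} (MvPolynomial (Fin (r + 1)) k)) ℕ :=
  ChainComplex.of (fun i => ModuleCat.of (MvPolynomial (Fin (r + 1)) k) (Fin (F.rk i) → MvPolynomial (Fin (r + 1)) k))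
    (fun i => ModuleCat.ofHom (F.dLin i))
    (fun i => ModuleCat.hom_ext (LinearMap.ext fun v => (F.exact_succ i).ge (LinearMap.mem_range_self _ v)))

theorem toComplex_d (i : ℕ) : (toComplex F).d (i + 1) i = ModuleCat.ofHom (F.dLin i) := by
  show ChainComplex.of.d (fun i => ModuleCat.of (MvPolynomial (Fin (r + 1)) k) (Fin (F.rk i) → MvPolynomial (Fin (r + 1)) k))
    (fun i => ModuleCat.ofHom (F.dLin i)) (i + 1) i = _
  rw [ChainComplex.of.d, dif_pos rfl]
  exact Category.id_comp _

/-- The projective resolution of a resolution. -/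
def toResolution : ProjectiveResolution (ModuleCat.of (MvPolynomial (Fin (r + 1)) k) M) where
  complex := toComplex F
  projective i := (IsProjective.iff_projective (Fin (F.rk i) → MvPolynomial (Fin (r + 1)) k)).1 inferInstance
  π := (ChainComplex.toSingle₀Equiv _ _).symm ⟨ModuleCat.ofHom F.augLin, by
    rw [toComplex_d]
    exact ModuleCat.hom_ext (LinearMap.ext fun v => F.exact_zero.ge (LinearMap.mem_range_self _ v))⟩
  quasiIso := ⟨fun n => by
    cases n with
    | zero =>
      rw [ChainComplex.quasiIsoAt₀_iff, ShortComplex.quasiIso_iff_of_zeros']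
      · refine (ShortComplex.exact_and_epi_g_iff_of_iso (S₂ := ShortComplex.mk (ModuleCat.ofHom (F.dLin 0)) (ModuleCat.ofHom F.augLin)
          (ModuleCat.hom_ext (LinearMap.ext fun v => F.exact_zero.ge (LinearMap.mem_range_self _ v)))) ?_).2
          ⟨(ShortComplex.moduleCat_exact_iff_range_eq_ker _).2 F.exact_zero.symm, (ModuleCat.epi_iff_surjective _).2 F.aug_surjective⟩
        exact ShortComplex.isoMk (Iso.refl _) (Iso.refl _) (Iso.refl _) (by simp [toComplex_d]; rfl) (by simp; rfl)
      all_goals rfl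
    | succ n =>
      rw [quasiIsoAt_iff_exactAt']
      · rw [HomologicalComplex.exactAt_iff' _ (n + 2) (n + 1) n (by simp) (by simp), ShortComplex.moduleCat_exact_iff_range_eq_ker]
        show LinearMap.range ((toComplex F).d (n + 2) (n + 1)).hom = LinearMap.ker ((toComplex F).d (n + 1) n).hom
        rw [toComplex_d, toComplex_d]
        exact (F.exact_succ n).symm
      · apply ChainComplex.exactAt_succ_single_obj⟩

theorem lTensor_dLin_eq_zero (hF : F.IsMinimal (GrSyz.irrel (GrSyz.stdGr k (Fin (r + 1)))).toIdeal) (i : ℕ) :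
    (F.dLin i).lTensor (MvPolynomial (Fin (r + 1)) k ⧸ (GrSyz.irrel (GrSyz.stdGr k (Fin (r + 1)))).toIdeal) = 0 := by
  refine TensorProduct.ext' fun q v => ?_
  rw [LinearMap.lTensor_tmul, LinearMap.zero_apply, pi_eq_sum_univ' (F.dLin i v), TensorProduct.tmul_sum]
  refine Finset.sum_eq_zero fun b _ => ?_
  rw [← TensorProduct.smul_tmul]
  obtain ⟨p, rfl⟩ := Ideal.Quotient.mk_surjective q
  rw [show F.dLin i v b • Ideal.Quotient.mk (GrSyz.irrel (GrSyz.stdGr k (Fin (r + 1)))).toIdeal p = 0 by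
    rw [Algebra.smul_def, Ideal.Quotient.algebraMap_eq, ← map_mul, Ideal.Quotient.eq_zero_iff_mem]
    exact Ideal.mul_mem_right _ _ ((mem_irrel_iff k r _).2 (small_range F hF i (LinearMap.mem_range_self _ v) b)),
    TensorProduct.zero_tmul]

theorem length_tor_eq (hF : F.IsMinimal (GrSyz.irrel (GrSyz.stdGr k (Fin (r + 1)))).toIdeal) (i : ℕ) :
    Module.length (MvPolynomial (Fin (r + 1)) k)
        (((Tor (ModuleCat.{u} (MvPolynomial (Fin (r + 1)) k)) i).obj
            (ModuleCat.of (MvPolynomial (Fin (r + 1)) k) ((MvPolynomial (Fin (r + 1)) k) ⧸ (GrSyz.irrel (GrSyz.stdGr k (Fin (r + 1)))).toIdeal))).obj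
          (ModuleCat.of (MvPolynomial (Fin (r + 1)) k) M)) = (F.rk i : ℕ∞) := by
  let X := ModuleCat.of (MvPolynomial (Fin (r + 1)) k) ((MvPolynomial (Fin (r + 1)) k) ⧸ (GrSyz.irrel (GrSyz.stdGr k (Fin (r + 1)))).toIdeal)
  let G := (tensoringLeft (ModuleCat.{u} (MvPolynomial (Fin (r + 1)) k))).obj X
  let K := (G.mapHomologicalComplex (ComplexShape.down ℕ)).obj (toComplex F)
  have hd : ∀ a b, K.d a b = 0 := fun a b => by
    by_cases hab : b + 1 = a
    · subst hab
      show G.map ((toComplex F).d (b + 1) b) = 0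
      rw [toComplex_d]
      exact ModuleCat.hom_ext (lTensor_dLin_eq_zero F hF b)
    · exact K.shape _ _ hab
  have e : ((Tor (ModuleCat.{u} (MvPolynomial (Fin (r + 1)) k)) i).obj X).obj (ModuleCat.of (MvPolynomial (Fin (r + 1)) k) M) ≅ K.X i :=
    (toResolution F).isoLeftDerivedObj G i ≪≫ (ShortComplex.HomologyData.ofZeros (K.sc i) (hd _ _) (hd _ _)).left.homologyIso
  rw [e.toLinearEquiv.length_eq]
  let eK : K.X i ≃ₗ[MvPolynomial (Fin (r + 1)) k] (Fin (F.rk i) →
      (MvPolynomial (Fin (r + 1)) k) ⧸ (GrSyz.irrel (GrSyz.stdGr k (Fin (r + 1)))).toIdeal) :=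
    TensorProduct.piScalarRight _ _ _ (Fin (F.rk i))
  rw [eK.length_eq, Module.length_pi_of_fintype]
  haveI : ((GrSyz.irrel (GrSyz.stdGr k (Fin (r + 1)))).toIdeal).IsMaximal := by
    have h : (GrSyz.irrel (GrSyz.stdGr k (Fin (r + 1)))).toIdeal = RingHom.ker (constantCoeff (R := k) (σ := Fin (r + 1))) :=
      Ideal.ext fun p => (mem_irrel_iff k r p).trans RingHom.mem_ker.symm
    rw [h]
    exact RingHom.ker_isMaximal_of_surjective _ fun c => ⟨C c, constantCoeff_C _ c⟩
  haveI : IsSimpleModule (MvPolynomial (Fin (r + 1)) k) ((MvPolynomial (Fin (r + 1)) k) ⧸ (GrSyz.irrel (GrSyz.stdGr k (Fin (r + 1)))).toIdeal) :=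
    isSimpleModule_iff_isCoatom.2 (Ideal.IsMaximal.out)
  simp [Module.length_eq_one]

end GrSyzLib
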